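import Cfsg.Agent.Lib.SJW.Prd
import Cfsg.Agent.Lib.WD.Defs

/-!
# The wreathed case in an almost simple group
-/

set_option autoImplicit false
set_option linter.unusedSectionVars false

namespace CfsgLib.SJW

open Subgroup Cfsg CfsgLib.Tech CfsgLib.W2 Function

universe u

variable {L : Type} {G : Type u} [Group L] [Group G] [Finite L] [Finite G]
  {z : L} {T A : Subgroup L} {R : Bool → Subgroup L} {ι ι₁ ι₂ : L →* G} {t : G} {E : Subgroup G}

namespace Pd

variable (d : Pd ι t ι₁ ι₂)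
include d

theorem restrict {M : Subgroup G} (ht : t ∈ M) (h0 : ∀ a, ι a ∈ M) (h1 : ∀ a, ι₁ a ∈ M) (h2 : ∀ a, ι₂ a ∈ M) :
    Pd (ι.codRestrict M h0) ⟨t, ht⟩ (ι₁.codRestrict M h1) (ι₂.codRestrict M h2) where
  inj0 _ _ e := d.inj0 (congrArg Subtype.val e)
  t2 := Subtype.ext d.t2
  aut g h := (d.aut g (congrArg Subtype.val h)).imp fun _ h a => Subtype.ext (h a)
  ker c h h' := (d.ker c (congrArg Subtype.val h) fun a => congrArg Subtype.val (h' a)).imp
    (fun o => ⟨orderOf_coe c ▸ o.1, fun a => Subtype.ext (o.2.1 a), fun a => Subtype.ext (o.2.2 a)⟩)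
    fun o => ⟨orderOf_coe (c * ⟨t, ht⟩) ▸ o.1, fun a => Subtype.ext (o.2.1 a), fun a => Subtype.ext (o.2.2 a)⟩
  nconj g l e := d.nconj g l (congrArg Subtype.val e)
  dia a := Subtype.ext (d.dia a)
  com a b := Subtype.ext (d.com a b)
  swp a := Subtype.ext (d.swp a)

variable (H : PF z T A R)
include H

theorem le_soc (hE : WD.AS E) (a : L) : ι₁ a ∈ E := by
  have := hE.normal
  have := H.simple
  have key : (∀ b, ∃ c, ι₁ b * ι₂ c ∈ E) → ι₁ a ∈ E := fun h => by
    have h1 : ⁅(⊤ : Subgroup L), (⊤ : Subgroup L)⁆ ≤ E.comap ι₁ := commutator_le.2 fun x _ y _ => by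
      obtain ⟨c, hc⟩ := h y
      have h2 := E.mul_mem (hE.normal.conj_mem _ hc (ι₁ x)) (E.inv_mem hc)
      rw [mem_comap, commutatorElement_def, map_mul, map_mul, map_mul, map_inv, map_inv]
      convert h2 using 1
      rw [mul_assoc (ι₁ x) (ι₁ y * ι₂ c), mul_assoc (ι₁ y), ← map_inv ι₁ x, ← d.com, map_inv]
      group
    exact h1 (H.perf (mem_top a))
  by_cases ht : t ∈ E
  · refine key fun b => ⟨b⁻¹, ?_⟩
    rw [← d.swp, map_inv, ← mul_assoc, ← mul_assoc]
    exact E.mul_mem (hE.normal.conj_mem _ ht _) (E.inv_mem ht)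
  refine key fun b => ⟨b, ?_⟩
  rw [← d.dia]
  rcases (hE.normal.comap ι).eq_bot_or_eq_top with e | e
  · exfalso
    obtain ⟨x, hx, x1, x2⟩ := hE.even
    have h1 := SLE.odd_of_inv (W := E) d.t2 (by rw [normalizer_eq_top]; trivial) fun c hc c2 ct => by
      obtain ⟨φ, hφ⟩ := d.aut c ct
      refine (d.eq_t (fun a => ?_) ct c2).resolve_right fun e => ht (e ▸ hc)
      have h2 : φ a * a⁻¹ ∈ E.comap ι := by
        rw [mem_comap, map_mul, map_inv, ← hφ, mul_assoc, mul_assoc, ← mul_assoc (ι a)]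
        exact E.mul_mem hc (hE.normal.conj_mem _ (E.inv_mem hc) _)
      rw [e, mem_bot, mul_inv_eq_one] at h2
      rw [← mul_inv_eq_iff_eq_mul, hφ, h2]
    exact x1 (SLE.eq_one_of_odd' (UFP.pgroup_zpowers_of_sq x2) h1 (mem_zpowers x) hx)
  · exact e.ge (mem_top b)

/-- the wreathed case does not occur in an almost simple group -/
theorem false_of_as (hE : WD.AS E) : False := by
  have h1 : ∀ a, ι₁ a ∈ E ⊔ zpowers t := fun a => mem_sup_left (d.le_soc H hE a)
  have h2 : ∀ a, ι₂ a ∈ E ⊔ zpowers t := fun a => mem_sup_left (d.symm.le_soc H hE a)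
  exact (d.restrict (mem_sup_right (mem_zpowers t)) (fun a => d.dia a ▸ mul_mem (h1 a) (h2 a)) h1 h2).false H
    (SLE.glob_sub hE.normal hE.simple hE.nab (hE.cent ▸ bot_le) d.t2)

end Pd

end CfsgLib.SJW
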