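import Mathlib
import Cfsg.Agent.Lib.W2.Tools
import Cfsg.Agent.Lib.SLE.NG
import Cfsg.Agent.Lib.SLE.Red
import Cfsg.Agent.Lib.UFP.NU

/-!
# The wreathed case over an abstract simple group: vocabulary and first facts
-/

set_option autoImplicit false
set_option linter.unusedSectionVars false

namespace CfsgLib.SJW

open Subgroup Cfsg CfsgLib.Tech CfsgLib.W2 Function

universe u

variable {L : Type} {G : Type u} [Group L] [Group G]

/-- `g` acts on `ι L` as `φ` -/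
def Ac (ι : L →* G) (g : G) (φ : MulAut L) : Prop := ∀ a, g * ι a * g⁻¹ = ι (φ a)

/-- `g` centralises `ι L` -/
def CL (ι : L →* G) (g : G) : Prop := ∀ a, g * ι a = ι a * g

/-- an involution that centralises the odd groups normalised by a subgroup of its centraliser -/
def HatL (T : Subgroup L) (a : L) : Prop :=
  a * a = 1 ∧ ∃ B ≤ T, a ∈ B ∧ (∀ b ∈ B, a * b = b * a) ∧
    ∀ W : Subgroup L, Odd (Nat.card W) → B ≤ normalizer (W : Set L) → ∀ w ∈ W, w * a = a * w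

/-- the facts about the factor -/
structure PF (z : L) (T A : Subgroup L) (R : Bool → Subgroup L) : Prop where
  simple : IsSimpleGroup L
  nab : ∃ a b : L, a * b ≠ b * a
  z2 : z * z = 1
  z1 : z ≠ 1
  syl : IsSylowIn 2 T ⊤
  cT : Nat.card T = 128
  idx : (Inn L).index = 2
  cls : ∀ a b : L, a * a = 1 → b * b = 1 →
    IsConj a b ∨ (a = 1 ∨ IsConj z a) ∨ b = 1 ∨ IsConj z b
  zT : ∀ a ∈ T, a * z = z * a
  cz : ∀ φ : MulAut L, (∀ a ∈ T, φ a = a) → φ = 1 ∨ φ = MulAut.conj z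
  fix : ∀ φ : MulAut L, φ * φ = 1 →
    ∃ X : Subgroup L, IsPGroup 2 X ∧ 16 ≤ Nat.card X ∧ ∀ a ∈ X, φ a = a
  RT : ∀ i, R i ≤ T
  TR : ∀ i, T ≤ normalizer (R i : Set L)
  gen : ∀ K : Subgroup L, (∀ i, normalizer (R i : Set L) ≤ K) → K = ⊤
  cenR : ∀ i (φ : MulAut L), (∀ a ∈ R i, φ a = a) → ∃ a ∈ R i, a * a = 1 ∧ φ = MulAut.conj a
  hat : ∀ i, R i ≤ closure {a | HatL T a}
  hz : HatL T z
  AT : A ≤ T
  Asq : ∀ a ∈ A, a * a = 1
  A2 : ∃ a ∈ A, ∃ b ∈ A, a ≠ 1 ∧ b ≠ 1 ∧ a ≠ b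
  Ainv : ∀ φ : MulAut L, (∀ a ∈ T, φ a ∈ T) → ∀ a ∈ A, φ a ∈ A

/-- an element of odd order centralising both factors -/
def Od (ι₁ ι₂ : L →* G) (c : G) : Prop := Odd (orderOf c) ∧ CL ι₁ c ∧ CL ι₂ c

/-- the wreathed frame -/
structure Pd (ι : L →* G) (t : G) (ι₁ ι₂ : L →* G) : Prop where
  inj0 : Injective ι
  t2 : t * t = 1
  aut : ∀ g, g * t = t * g → ∃ φ, Ac ι g φ
  ker : ∀ c, c * t = t * c → CL ι c → Od ι₁ ι₂ c ∨ Od ι₁ ι₂ (c * t)
  nconj : ∀ g l, g * t * g⁻¹ ≠ ι l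
  dia : ∀ a, ι a = ι₁ a * ι₂ a
  com : ∀ a b, ι₁ a * ι₂ b = ι₂ b * ι₁ a
  swp : ∀ a, t * ι₁ a * t⁻¹ = ι₂ a

section
variable {ι : L →* G} {g h : G} {p q : MulAut L}

theorem Ac.mul (h1 : Ac ι g p) (h2 : Ac ι h q) : Ac ι (g * h) (p * q) := fun a => by
  rw [MulAut.mul_apply, ← h1, ← h2]; group

theorem Ac.inv (h1 : Ac ι g p) : Ac ι g⁻¹ p⁻¹ := fun a => by
  have := h1 (p⁻¹ a)
  rw [← MulAut.mul_apply, mul_inv_cancel, MulAut.one_apply] at this
  rw [← this]; group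

theorem ac_i (a : L) : Ac ι (ι a) (MulAut.conj a) := fun b => by
  rw [MulAut.conj_apply, map_mul, map_mul, map_inv]

theorem ac_one_iff : Ac ι g 1 ↔ CL ι g := forall_congr' fun a => by
  rw [MulAut.one_apply, mul_inv_eq_iff_eq_mul]

theorem CL_iff : CL ι g ↔ g ∈ centralizer (ι.range : Set G) :=
  ⟨fun h => by rintro _ ⟨a, rfl⟩; exact (h a).symm, fun h a => (h _ ⟨a, rfl⟩).symm⟩

theorem Ac.unique (hi : Injective ι) (h1 : Ac ι g p) (h2 : Ac ι g q) : p = q :=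
  MulEquiv.ext fun a => hi ((h1 a).symm.trans (h2 a))

theorem Ac.cl (h1 : Ac ι g p) (h2 : Ac ι h p) : CL ι (h⁻¹ * g) :=
  ac_one_iff.1 (by have := h2.inv.mul h1; rwa [inv_mul_cancel] at this)

theorem ac_of_norm (hi : Injective ι) (hg : g ∈ normalizer (ι.range : Set G)) : ∃ p, Ac ι g p := by
  let e := MonoidHom.ofInjective hi
  refine ⟨e.trans ((ι.range.normalizerMonoidHom ⟨g, hg⟩).trans e.symm), fun a => ?_⟩
  rw [MulEquiv.trans_apply, MulEquiv.trans_apply, MonoidHom.apply_ofInjective_symm]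
  rfl

theorem inner_mem {a : L} (h : Ac ι g (MulAut.conj a)) :
    g ∈ ι.range ⊔ centralizer (ι.range : Set G) := by
  rw [← mul_inv_cancel_left (ι a) g]
  exact Subgroup.mul_mem _ (mem_sup_left ⟨a, rfl⟩) (mem_sup_right (CL_iff.1 (h.cl (ac_i a))))

end

theorem le_of_norm [IsSimpleGroup L] {φ : L →* G} {M : Subgroup G}
    (hn : ∀ l a, φ a ∈ M → φ (l * a * l⁻¹) ∈ M) {z : L} (z1 : z ≠ 1) (hz : φ z ∈ M) : φ.range ≤ M := by
  have hN : (M.comap φ).Normal := ⟨fun a ha l => hn l a ha⟩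
  rcases hN.eq_bot_or_eq_top with h | h
  · exact absurd (mem_bot.1 (h.le (show z ∈ M.comap φ from hz))) z1
  · rintro _ ⟨a, rfl⟩
    exact h.ge (mem_top a)

theorem eq_one_of_odd_sq {c : G} (h : Odd (orderOf c)) (h2 : c * c = 1) : c = 1 :=
  orderOf_eq_one_iff.1 (Nat.eq_one_of_dvd_coprimes (Nat.coprime_two_right.2 h) dvd_rfl
    (orderOf_dvd_of_pow_eq_one (by rw [pow_two, h2])))

namespace PF

variable {z : L} {T A : Subgroup L} {R : Bool → Subgroup L} (H : PF z T A R)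
include H

theorem cen {a : L} (h : ∀ b, a * b = b * a) : a = 1 := by
  have := H.simple
  obtain ⟨x, y, e⟩ := H.nab
  rcases (inferInstance : (center L).Normal).eq_bot_or_eq_top with c | c
  · exact mem_bot.1 (c.le (mem_center_iff.2 fun b => (h b).symm))
  · exact absurd (mem_center_iff.1 (c.ge (mem_top y)) x) e

theorem conj_inj : Injective (MulAut.conj : L →* MulAut L) :=
  (injective_iff_map_eq_one _).2 fun a e => H.cen fun b => by
    have := congrArg (fun φ : MulAut L => φ b) e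
    exact mul_inv_eq_iff_eq_mul.1 this

theorem perf : (⊤ : Subgroup L) ≤ ⁅(⊤ : Subgroup L), (⊤ : Subgroup L)⁆ := by
  have := H.simple
  obtain ⟨x, y, e⟩ := H.nab
  rcases (inferInstance : (commutator L).Normal).eq_bot_or_eq_top with c | c
  · exact absurd (commutatorElement_eq_one_iff_mul_comm.1
      (mem_bot.1 (c.le (commutator_mem_commutator (mem_top x) (mem_top y))))) e
  · exact c.ge

theorem perf_range (ι : L →* G) : ι.range ≤ ⁅ι.range, ι.range⁆ := by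
  rw [MonoidHom.range_eq_map, ← map_commutator]
  exact map_mono H.perf

theorem cl_one {ι : L →* G} (hi : Injective ι) {a : L} (h : CL ι (ι a)) : a = 1 :=
  H.cen fun b => hi (by rw [map_mul, map_mul, h])

theorem out {φ ψ : MulAut L} (h1 : φ ∉ Inn L) (h2 : ψ ∉ Inn L) : φ * ψ ∈ Inn L :=
  (mul_mem_iff_of_index_two H.idx).2 (iff_of_false h1 h2)

theorem syl_map {ι : L →* G} (hi : Injective ι) : IsSylowIn 2 (T.map ι) ι.range :=
  ⟨map_le_range _ _, H.syl.pgroup.map ι, by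
    rw [MonoidHom.range_eq_map, relIndex_map_map_of_injective _ _ hi]
    exact H.syl.not_dvd⟩

/-- an automorphism centralising `C(a)`, `a ~ z` -/
theorem cz' {a l : L} (e : l * z * l⁻¹ = a) {φ : MulAut L} (h : ∀ c, c * a = a * c → φ c = c) :
    φ = 1 ∨ φ = MulAut.conj a := by
  have := H.cz ((MulAut.conj l)⁻¹ * φ * MulAut.conj l) fun b hb => by
    rw [MulAut.mul_apply, MulAut.mul_apply, MulAut.conj_apply, h _ (by
      rw [← e, show l * b * l⁻¹ * (l * z * l⁻¹) = l * (b * z) * l⁻¹ by group, H.zT b hb]; group)]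
    simp [mul_assoc]
  refine this.imp (fun f => ?_) fun f => ?_
  · rw [show φ = MulAut.conj l * ((MulAut.conj l)⁻¹ * φ * MulAut.conj l) * (MulAut.conj l)⁻¹ by group, f]
    group
  · rw [show φ = MulAut.conj l * ((MulAut.conj l)⁻¹ * φ * MulAut.conj l) * (MulAut.conj l)⁻¹ by group, f,
      ← e, map_mul, map_mul, map_inv]

end PF

namespace Pd

variable {ι ι₁ ι₂ : L →* G} {t : G} (d : Pd ι t ι₁ ι₂)
include d

theorem ti : t⁻¹ = t := inv_eq_of_mul_eq_one_right d.t2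

theorem symm : Pd ι t ι₂ ι₁ where
  inj0 := d.inj0
  t2 := d.t2
  aut := d.aut
  ker c h1 h2 := (d.ker c h1 h2).imp (fun h => ⟨h.1, h.2.2, h.2.1⟩) fun h => ⟨h.1, h.2.2, h.2.1⟩
  nconj := d.nconj
  dia a := by rw [d.dia, d.com]
  com a b := (d.com b a).symm
  swp a := by
    rw [← d.swp, show t * (t * ι₁ a * t⁻¹) * t⁻¹ = t * t * ι₁ a * (t * t)⁻¹ by group, d.t2]
    group

theorem inj : Injective ι₁ := (injective_iff_map_eq_one _).2 fun a e => d.inj0 (by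
  rw [d.dia, ← d.swp, e, map_one]; group)

theorem tC : CL ι t := fun a => by
  rw [← mul_inv_eq_iff_eq_mul, d.dia, show t * (ι₁ a * ι₂ a) * t⁻¹ =
    t * ι₁ a * t⁻¹ * (t * ι₂ a * t⁻¹) by group, d.swp, d.symm.swp, d.com]

theorem i_ne_t (a : L) : ι a ≠ t := fun e => d.nconj 1 a (by rw [e]; group)

theorem t1 : t ≠ 1 := fun e => d.i_ne_t 1 (by rw [map_one, e])

/-- the 2-elements of `C(ι L) ∩ C(t)` -/
theorem two {c : G} (h1 : CL ι c) (h2 : c * t = t * c) {k : ℕ} (h3 : c ^ 2 ^ k = 1) : c = 1 ∨ c = t := by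
  have key : ∀ x : G, Odd (orderOf x) → x ^ 2 ^ (k + 1) = 1 → x = 1 := fun x h e =>
    orderOf_eq_one_iff.1 (Nat.eq_one_of_dvd_coprimes ((Nat.coprime_two_right.2 h).pow_right _) dvd_rfl
      (orderOf_dvd_of_pow_eq_one e))
  have h4 : c ^ 2 ^ (k + 1) = 1 := by rw [pow_succ, pow_mul, h3, one_pow]
  refine (d.ker c h2 h1).imp (fun h => key c h.1 h4) fun h => ?_
  have := key _ h.1 (by
    rw [(show Commute c t from h2).mul_pow, h4, pow_succ', pow_mul, pow_two, d.t2, one_pow, one_mul])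
  rw [eq_inv_of_mul_eq_one_left this, d.ti]

theorem eq_t {c : G} (h1 : CL ι c) (h2 : c * t = t * c) (h3 : c * c = 1) : c = 1 ∨ c = t :=
  d.two h1 h2 (k := 1) (by rw [pow_one, pow_two, h3])

theorem exists_π : ∃ π : Cx t →* MulAut L, ∀ g : Cx t, Ac ι g (π g) := by
  choose f hf using fun g : Cx t => d.aut g (mem_Cx.1 g.2)
  exact ⟨MonoidHom.mk' f fun a b => (hf (a * b)).unique d.inj0 ((hf a).mul (hf b)), hf⟩

theorem conj_i (l a : L) : ι l * ι₁ a * (ι l)⁻¹ = ι₁ (l * a * l⁻¹) := by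
  rw [d.dia, mul_assoc (ι₁ l), ← d.com, map_mul, map_mul, map_inv]
  group

theorem comm_i {a b : L} (h : a * b = b * a) : ι b * ι₁ a = ι₁ a * ι b := by
  rw [← mul_inv_eq_iff_eq_mul, d.conj_i, ← h, mul_inv_cancel_right]

theorem conj_t (a b : L) :
    ι₁ a * ι₂ b * t * (ι₁ a * ι₂ b)⁻¹ = t * (ι₁ (b * a⁻¹) * ι₂ (a * b⁻¹)) := by
  have h1 : ι₁ a * t = t * ι₂ a := by
    rw [← d.symm.swp a, d.ti, mul_assoc, d.t2, mul_one]
  have h2 : ι₂ b * t = t * ι₁ b := by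
    rw [← d.swp b, d.ti, mul_assoc, d.t2, mul_one]
  rw [mul_assoc (ι₁ a), h2, ← mul_assoc, h1, mul_inv_rev, ← map_inv, ← map_inv, map_mul, map_mul,
    mul_assoc, mul_assoc, ← mul_assoc (ι₂ a), ← d.com, ← d.com a⁻¹, mul_assoc, mul_assoc,
    ← mul_assoc (ι₂ a), ← d.com, mul_assoc]

theorem conj_one {a : L} (h : a * a = 1) : ι₁ a * t * (ι₁ a)⁻¹ = t * ι a := by
  have := d.conj_t a 1
  rwa [map_one, mul_one, one_mul, inv_one, mul_one, inv_eq_of_mul_eq_one_right h, ← d.dia] at this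

theorem mem_G0 {g : G} : g ∈ ι₁.range ⊔ ι₂.range ↔ ∃ a b, g = ι₁ a * ι₂ b := by
  rw [← MonoidHom.noncommCoprod_range ι₁ ι₂ d.com]
  exact ⟨fun ⟨p, e⟩ => ⟨p.1, p.2, e.symm⟩, fun ⟨a, b, e⟩ => ⟨(a, b), e.symm⟩⟩

variable {z : L} {T A : Subgroup L} {R : Bool → Subgroup L} (H : PF z T A R)
include H

theorem uniq {a b a' b' : L} (h : ι₁ a * ι₂ b = ι₁ a' * ι₂ b') : a = a' ∧ b = b' := by
  have e : ι₁ (a'⁻¹ * a) = ι₂ (b' * b⁻¹) := by
    rw [map_mul, map_mul, map_inv, map_inv, inv_mul_eq_iff_eq_mul, ← mul_assoc, ← h, mul_inv_cancel_right]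
  have e1 : a' = a := inv_mul_eq_one.1 (H.cl_one d.inj fun c => by rw [e, d.com])
  subst e1
  exact ⟨rfl, d.symm.inj (mul_left_cancel h)⟩

theorem ne : ι₁.range ≠ ι₂.range := fun e => by
  obtain ⟨b, hb⟩ : ι₁ z ∈ ι₂.range := e ▸ ⟨z, rfl⟩
  exact H.z1 (d.uniq H (a := z) (b := 1) (a' := 1) (b' := b) (by simp [hb])).1

end Pd

end CfsgLib.SJW
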