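import Cfsg.Agent.Lib.SJW.Defs

/-!
# The wreathed case: no conjugate of `t` normalises both factors
-/

set_option autoImplicit false
set_option linter.unusedSectionVars false

namespace CfsgLib.SJW

open Subgroup Cfsg CfsgLib.Tech CfsgLib.W2 Function

universe u

variable {L : Type} {G : Type u} [Group L] [Group G] [Finite L] [Finite G]
  {z : L} {T A : Subgroup L} {R : Bool → Subgroup L} {ι ι₁ ι₂ : L →* G} {t : G}

theorem two_center {X : Subgroup L} (hX : IsPGroup 2 X) (h : 16 ≤ Nat.card X) :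
    ∃ a ∈ X, a ≠ 1 ∧ ∀ b ∈ X, a * b = b * a := by
  have : Fact (Nat.Prime 2) := ⟨Nat.prime_two⟩
  have : Nontrivial X := Finite.one_lt_card_iff_nontrivial.1 (by omega)
  have := hX.center_nontrivial
  obtain ⟨⟨a, ha⟩, h1⟩ := exists_ne (1 : center X)
  exact ⟨a, a.2, fun e => h1 (Subtype.ext (Subtype.ext e)),
    fun b hb => congrArg Subtype.val (mem_center_iff.1 ha ⟨b, hb⟩).symm⟩

/-- the inner part of a 2-group of automorphisms -/
theorem PF.aut_two (H : PF z T A R) {P : Subgroup (MulAut L)} (hP : IsPGroup 2 P) :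
    IsPGroup 2 (P.comap (MulAut.conj : L →* MulAut L)) ∧
      Nat.card P ≤ 2 * Nat.card (P.comap (MulAut.conj : L →* MulAut L)) := by
  refine ⟨hP.comap_of_injective _ H.conj_inj, ?_⟩
  have h1 : Nat.card (P.comap (MulAut.conj : L →* MulAut L)) = Nat.card ((Inn L).subgroupOf P) := by
    rw [← card_map_of_injective H.conj_inj, map_comap_eq, ← inf_subgroupOf_right,
      Nat.card_congr (subgroupOfEquivOfLe (inf_le_right : Inn L ⊓ P ≤ P)).toEquiv]
  rw [h1, ← ((Inn L).subgroupOf P).index_mul_card]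
  refine Nat.mul_le_mul_right _ (Nat.le_of_dvd two_pos ?_)
  rw [← H.idx]
  exact relIndex_dvd_index_of_normal _ _

namespace Pd

variable (d : Pd ι t ι₁ ι₂) (H : PF z T A R)
include d H

omit H in
theorem ker_le {X : Subgroup G} (hX : IsPGroup 2 X) (h : X ≤ Cx t) {π : Cx t →* MulAut L}
    (hπ : ∀ g : Cx t, Ac ι g (π g)) {x : X} (hx : π (inclusion h x) = 1) : (x : G) = 1 ∨ (x : G) = t := by
  obtain ⟨k, hk⟩ := isPGroup_iff_mem.1 hX x x.2
  have := hπ (inclusion h x)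
  rw [hx] at this
  exact d.two (ac_one_iff.1 this) (mem_Cx.1 (h x.2)) hk

/-- 2-subgroups of `C(t)` have order at most `512` -/
theorem card_le {X : Subgroup G} (hX : IsPGroup 2 X) (h : X ≤ Cx t) : Nat.card X ≤ 512 := by
  have := Fact.mk Nat.prime_two
  obtain ⟨π, hπ⟩ := d.exists_π
  let f : X →* MulAut L := π.comp (inclusion h)
  obtain ⟨b1, b2⟩ := H.aut_two (P := f.range) (hX.of_surjective _ f.rangeRestrict_surjective)
  have b3 := H.syl.card_le b1 le_top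
  rw [H.cT] at b3
  have a2 : Nat.card f.ker ≤ 2 := by
    have m : ∀ g : f.ker, (g.1 : G) ∈ zpowers t := fun g => by
      rcases d.ker_le hX h hπ g.2 with e | e
      · exact e ▸ one_mem _
      · exact e ▸ mem_zpowers _
    refine (Nat.card_le_card_of_injective (fun g : f.ker => (⟨_, m g⟩ : zpowers t))
      fun a b e => Subtype.ext (Subtype.ext (Subtype.mk.inj e))).trans ?_
    rw [Nat.card_zpowers]
    exact Nat.le_of_dvd two_pos (orderOf_dvd_of_pow_eq_one (by rw [pow_two, d.t2]))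
  rw [← f.ker.card_mul_index, index_ker]
  exact (Nat.mul_le_mul a2 (b2.trans (Nat.mul_le_mul_left 2 b3))).trans (by norm_num)

/-- a 2-subgroup of `C(t)` of order `256` without `t` has a centre of order at most `2` -/
theorem center_le {X : Subgroup G} (hX : IsPGroup 2 X) (h : X ≤ Cx t) (ht : t ∉ X) (hc : 256 ≤ Nat.card X)
    {x y : G} (hx : x ∈ X) (hy : y ∈ X) (x1 : x ≠ 1) (y1 : y ≠ 1) (cx : ∀ w ∈ X, x * w = w * x)
    (cy : ∀ w ∈ X, y * w = w * y) : x = y := by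
  have := Fact.mk Nat.prime_two
  obtain ⟨π, hπ⟩ := d.exists_π
  let f : X →* MulAut L := π.comp (inclusion h)
  have fi : Injective f := (injective_iff_map_eq_one _).2 fun w e =>
    Subtype.ext ((d.ker_le hX h hπ e).resolve_right fun e => ht (e ▸ w.2))
  obtain ⟨b1, b2⟩ := H.aut_two (P := f.range) (hX.of_surjective _ f.rangeRestrict_surjective)
  rw [← Nat.card_congr (MonoidHom.ofInjective fi).toEquiv] at b2
  obtain ⟨l, -, e⟩ := H.syl.exists_cj_eq (H.syl.of_card_le b1 le_top (by rw [H.cT]; omega))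
  have key : ∀ (w : G) (hw : w ∈ X), w ≠ 1 → (∀ v ∈ X, w * v = v * w) →
      f ⟨w, hw⟩ = MulAut.conj (l * z * l⁻¹) := fun w hw w1 cw => by
    have h1 := H.cz ((MulAut.conj l)⁻¹ * f ⟨w, hw⟩ * MulAut.conj l) fun b hb => by
      obtain ⟨v, hv⟩ : MulAut.conj (l * b * l⁻¹) ∈ f.range := by
        have h2 : l * b * l⁻¹ ∈ cj l T := conj_mem_cj.2 hb
        rw [e] at h2
        exact h2
      have h3 : f ⟨w, hw⟩ * f v = f v * f ⟨w, hw⟩ := by
        rw [← map_mul, ← map_mul]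
        exact congrArg f (Subtype.ext (cw v v.2))
      have h4 : f ⟨w, hw⟩ (l * b * l⁻¹) = l * b * l⁻¹ := H.conj_inj (MulEquiv.ext fun c => by
        have h5 := congrArg (fun φ : MulAut L => φ ((f ⟨w, hw⟩)⁻¹ c)) h3
        simp only [hv, MulAut.mul_apply, MulAut.conj_apply, map_mul, map_inv,
          MulAut.apply_inv_self] at h5 ⊢
        exact h5)
      rw [MulAut.mul_apply, MulAut.mul_apply, MulAut.conj_apply, h4]
      simp [mul_assoc]
    have h6 : f ⟨w, hw⟩ = MulAut.conj l * ((MulAut.conj l)⁻¹ * f ⟨w, hw⟩ * MulAut.conj l) *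
      (MulAut.conj l)⁻¹ := by group
    rcases h1 with h1 | h1 <;> rw [h1] at h6
    · exact absurd (congrArg Subtype.val (fi (h6.trans (by rw [map_one]; group)))) w1
    · rw [h6, map_mul, map_mul, map_inv]
  exact congrArg Subtype.val (fi ((key x hx x1 cx).trans (key y hy y1 cy).symm))

theorem prod_facts {X Y : Subgroup L} (hX : IsPGroup 2 X) (hY : IsPGroup 2 Y) :
    IsPGroup 2 ((X.prod Y).map (ι₁.noncommCoprod ι₂ d.com)) ∧
      Nat.card ((X.prod Y).map (ι₁.noncommCoprod ι₂ d.com)) = Nat.card X * Nat.card Y := by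
  have := Fact.mk Nat.prime_two
  have h : Nat.card ((X.prod Y).map (ι₁.noncommCoprod ι₂ d.com)) = Nat.card X * Nat.card Y := by
    rw [card_map_of_injective fun p q e => Prod.ext (d.uniq H e).1 (d.uniq H e).2,
      Nat.card_congr (X.prodEquiv Y).toEquiv, Nat.card_prod]
  obtain ⟨m, hm⟩ := hX.exists_card_eq
  obtain ⟨n, hn⟩ := hY.exists_card_eq
  exact ⟨IsPGroup.of_card (n := m + n) (by rw [h, hm, hn, pow_add]), h⟩

omit H in
theorem prod_le {X Y : Subgroup L} {s : G} (a3 : ∀ a ∈ X, s * ι₁ a = ι₁ a * s)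
    (b3 : ∀ a ∈ Y, s * ι₂ a = ι₂ a * s) : (X.prod Y).map (ι₁.noncommCoprod ι₂ d.com) ≤ Cx s := by
  rintro _ ⟨p, hp, rfl⟩
  refine mem_Cx.2 ?_
  show ι₁ p.1 * ι₂ p.2 * s = s * (ι₁ p.1 * ι₂ p.2)
  rw [mul_assoc, ← b3 _ hp.2, ← mul_assoc, ← a3 _ hp.1, mul_assoc]

omit d H in
theorem cj_Cx_le {X : Subgroup G} {g : G} (h : X ≤ Cx (g * t * g⁻¹)) : cj g⁻¹ X ≤ Cx t :=
  cj_le_iff.2 fun x hx => mem_Cx.2 (by
    have := mem_Cx.1 (h hx)
    calc _ = g⁻¹ * (x * (g * t * g⁻¹)) * g := by group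
      _ = _ := by rw [this]; group)

theorem not_big {g : G} {a b : L} (e : g * t * g⁻¹ = ι₁ a * ι₂ b) (b2 : b * b = 1)
    (ha : a = 1 ∨ IsConj z a) : False := by
  obtain ⟨l, hl⟩ : ∃ l, ∀ c ∈ cj l T, a * c = c * a := by
    rcases ha with rfl | ha
    · exact ⟨1, fun c _ => by rw [one_mul, mul_one]⟩
    · obtain ⟨l, rfl⟩ := isConj_iff.1 ha
      refine ⟨l, fun c hc => ?_⟩
      have := H.zT _ (mem_cj.1 hc)
      calc _ = l * (z * (l⁻¹ * c * l)) * l⁻¹ := by group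
        _ = _ := by rw [← this]; group
  obtain ⟨Y, b1, b4, b3⟩ := H.fix (MulAut.conj b) (by rw [← map_mul, b2, map_one])
  obtain ⟨p1, p2⟩ := d.prod_facts H (H.syl.cj l).pgroup b1
  have h1 := d.card_le H (p1.map _) (cj_Cx_le (g := g) (d.prod_le (fun c hc => by
      rw [e, mul_assoc, ← d.com, ← mul_assoc, ← map_mul, hl c hc, map_mul, mul_assoc]) fun c hc => by
      rw [e, mul_assoc, ← map_mul, mul_inv_eq_iff_eq_mul.1 (b3 c hc), map_mul, ← mul_assoc, d.com,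
        mul_assoc]))
  rw [card_cj, p2, card_cj, H.cT] at h1
  omega

/-- no conjugate of `t` normalises both factors -/
theorem n_fix {g : G} (h1 : cj (g * t * g⁻¹) ι₁.range = ι₁.range)
    (h2 : cj (g * t * g⁻¹) ι₂.range = ι₂.range) : False := by
  have s2 : g * t * g⁻¹ * (g * t * g⁻¹) = 1 := by
    rw [show g * t * g⁻¹ * (g * t * g⁻¹) = g * (t * t) * g⁻¹ by group, d.t2]
    group
  by_cases hs : g * t * g⁻¹ ∈ ι₁.range ⊔ ι₂.range
  · obtain ⟨a, b, e⟩ := d.mem_G0.1 hs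
    obtain ⟨a2, b2⟩ := d.uniq H (a := a * a) (b := b * b) (a' := 1) (b' := 1) (by
      rw [map_one, map_one, mul_one, ← s2, e, map_mul, map_mul, mul_assoc, mul_assoc, ← mul_assoc (ι₂ b),
        ← d.com, mul_assoc])
    rcases H.cls a b a2 b2 with h | h | h
    · obtain ⟨l, rfl⟩ := isConj_iff.1 h
      refine d.nconj (ι₁ l * g) (l * a * l⁻¹) ?_
      rw [show ι₁ l * g * t * (ι₁ l * g)⁻¹ = ι₁ l * (g * t * g⁻¹) * (ι₁ l)⁻¹ by group, e, d.dia,
        mul_assoc, mul_assoc, ← map_inv, ← d.com, ← mul_assoc, ← mul_assoc, ← map_mul, ← map_mul]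
    · exact d.not_big H e b2 h
    · exact d.symm.not_big H (e.trans (d.com a b)) a2 h
  have key : ∀ {κ : L →* G}, Injective κ → cj (g * t * g⁻¹) κ.range = κ.range →
      ∃ X : Subgroup L, IsPGroup 2 X ∧ 16 ≤ Nat.card X ∧ ∀ a ∈ X, g * t * g⁻¹ * κ a = κ a * (g * t * g⁻¹) :=
    fun hi h => by
      obtain ⟨p, hp⟩ := ac_of_norm hi (mem_normalizer_iff_cj.2 h)
      obtain ⟨X, x1, x2, x3⟩ := H.fix p (Ac.unique hi (hp.mul hp) (s2 ▸ ac_one_iff.2 fun a => by simp))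
      exact ⟨X, x1, x2, fun a ha => mul_inv_eq_iff_eq_mul.1 (by rw [hp a, x3 a ha])⟩
  obtain ⟨X, a1, a2, a3⟩ := key d.inj h1
  obtain ⟨Y, b1, b2, b3⟩ := key d.symm.inj h2
  obtain ⟨p1, p2⟩ := d.prod_facts H a1 b1
  obtain ⟨x, hx, x1, x2⟩ := two_center a1 a2
  obtain ⟨y, hy, y1, y2⟩ := two_center b1 b2
  have ne : ∀ w : G, w ≠ 1 → g⁻¹ * w * g⁻¹⁻¹ ≠ 1 := fun w h e => h (by
    rw [show w = g * (g⁻¹ * w * g⁻¹⁻¹) * g⁻¹ by group, e]; group)
  have cm : ∀ w : G, (∀ a ∈ X, w * ι₁ a = ι₁ a * w) → (∀ a ∈ Y, w * ι₂ a = ι₂ a * w) →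
      ∀ v ∈ cj g⁻¹ ((X.prod Y).map (ι₁.noncommCoprod ι₂ d.com)),
        g⁻¹ * w * g⁻¹⁻¹ * v = v * (g⁻¹ * w * g⁻¹⁻¹) := fun w h3 h4 v hv => by
    have := mem_Cx.1 (d.prod_le h3 h4 (mem_cj.1 hv))
    calc _ = g⁻¹ * (w * (g⁻¹⁻¹ * v * g⁻¹)) * g := by group
      _ = _ := by rw [← this]; group
  have e := d.center_le H (p1.map _) (cj_Cx_le (g := g) (d.prod_le a3 b3)) (fun h => hs (by
      obtain ⟨p, -, e⟩ := mem_cj.1 h
      rw [inv_inv] at e
      exact d.mem_G0.2 ⟨p.1, p.2, e.symm⟩)) (by rw [card_cj, p2]; nlinarith)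
    (conj_mem_cj.2 ⟨(x, 1), ⟨hx, one_mem _⟩, show ι₁ x * ι₂ 1 = ι₁ x by simp⟩)
    (conj_mem_cj.2 ⟨(1, y), ⟨one_mem _, hy⟩, show ι₁ 1 * ι₂ y = ι₂ y by simp⟩)
    (ne _ fun e => x1 (d.inj (e.trans (map_one _).symm)))
    (ne _ fun e => y1 (d.symm.inj (e.trans (map_one _).symm)))
    (cm _ (fun a ha => by rw [← map_mul, x2 a ha, map_mul]) fun a _ => d.com x a)
    (cm _ (fun a _ => (d.com a y).symm) fun a ha => by rw [← map_mul, y2 a ha, map_mul])
  exact x1 (d.uniq H (a := x) (b := 1) (a' := 1) (b' := y) (by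
    simpa using mul_left_cancel (mul_right_cancel e))).1

end Pd

end CfsgLib.SJW
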