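import Cfsg.Agent.Lib.SJW.Defs
import Cfsg.Agent.Lib.SylT.J2a
import Cfsg.Agent.Lib.HJ.Two

/-!
# Automorphisms and local structure from the amalgam of Hall-Janko type
-/

set_option autoImplicit false
set_option linter.unusedSectionVars false
set_option maxRecDepth 100000
set_option Elab.async false

namespace CfsgLib.SJW

open Subgroup Cfsg CfsgLib.Tech CfsgLib.W2 CfsgLib.HJ CfsgLib.SylT Function

variable {L : Type} [Group L] [Finite L] {Q : Subgroup L} {z : L} {q : Fin 5 → L} {u n y r : L}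

theorem chkU : solB ccT ccM 1920 10
    [(.app .var [7], .mul (.word [7]) .var), (.app .var [5, 7, 5], .mul (.word [5, 7, 5]) .var)]
    (isOne [[], [1], [6], [1, 6]]) (fun _ => 0) = true := by decide +kernel

theorem chkY : solB ccT ccM 1920 10
    [(.app .var [7], .mul (.word [7]) .var), (.app .var [9], .mul (.word [9]) .var)]
    (isOne [[], [1], [6], [1, 6]]) (fun _ => 0) = true := by decide +kernel

/-- words generating `P0` -/
def gP : List (List ℕ) := [[1], [6], [7], [10, 7, 9], [5, 7, 5], [5, 10, 7, 9, 5]]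

theorem chkP : solB ccT ccM 1920 10
    [(.app .var [6], .mul (.word [6]) .var), (.mul (.mul .var .var) (.mul .var .var), .word [])]
    (isOne (gP.sublists.map List.flatten)) (fun _ => 0) = true := by decide +kernel

theorem four_of {g : L} (h : ∃ w ∈ [[], [1], [6], [1, 6]], ev (fl z q u n y 1) w = g) :
    g = 1 ∨ g = z ∨ g = q 4 ∨ g = z * q 4 := by
  obtain ⟨w, hw, e⟩ := h
  simp only [List.mem_cons, List.not_mem_nil, or_false] at hw
  rcases hw with rfl | rfl | rfl | rfl <;> simp only [ev_cons, ev_nil, mul_one] at e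
  exacts [.inl e.symm, .inr (.inl e.symm), .inr (.inr (.inl e.symm)), .inr (.inr (.inr e.symm))]

theorem cen_U (S : Spl Q z q u n y) {g : L} (hg : g * z = z * g) (hu : g * u = u * g)
    (hd : g * (q 3 * u * q 3) = q 3 * u * q 3 * g) : g = 1 ∨ g = z ∨ g = q 4 ∨ g = z * q 4 := by
  obtain ⟨d, M⟩ := S.fr.mdl S.pre S.card 1
  exact four_of (M.sol_mem chkU (mem_Cx.2 hg) (by
    simpa only [eqs_cons, eqs_nil, Ex.val, ev_cons, ev_nil, mul_one, and_true, ltsE, mul_assoc] using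
      And.intro hu hd))

theorem cen_Y (S : Spl Q z q u n y) {g : L} (hg : g * z = z * g) (hu : g * u = u * g)
    (hy : g * y = y * g) : g = 1 ∨ g = z ∨ g = q 4 ∨ g = z * q 4 := by
  obtain ⟨d, M⟩ := S.fr.mdl S.pre S.card 1
  exact four_of (M.sol_mem chkY (mem_Cx.2 hg) (by
    simpa only [eqs_cons, eqs_nil, Ex.val, ev_cons, ev_nil, mul_one, and_true, ltsE] using And.intro hu hy))

theorem mem_P (S : Spl Q z q u n y) {P : Subgroup L} (hP : ∀ w ∈ gP, ev (fl z q u n y 1) w ∈ P) {g : L}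
    (hg : g * z = z * g) (he : g * q 4 = q 4 * g) (h4 : g * g * (g * g) = 1) : g ∈ P := by
  obtain ⟨d, M⟩ := S.fr.mdl S.pre S.card 1
  obtain ⟨w, hw, rfl⟩ := M.sol_mem chkP (mem_Cx.2 hg) (by
    simpa only [eqs_cons, eqs_nil, Ex.val, ev_cons, ev_nil, mul_one, and_true, ltsE] using And.intro he h4)
  obtain ⟨l, hl, rfl⟩ := List.mem_map.1 hw
  have h1 : ∀ w ∈ l, ev (fl z q u n y 1) w ∈ P := fun w hw => hP w ((List.mem_sublists.1 hl).subset hw)
  clear hl hw hg he h4
  induction l with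
  | nil => exact one_mem _
  | cons a l ih =>
    rw [List.flatten_cons, ev_append]
    exact mul_mem (h1 a List.mem_cons_self) (ih fun w hw => h1 w (List.mem_cons_of_mem _ hw))

omit [Finite L] in
theorem comm_of_fix {ψ : MulAut L} {c x : L} (h1 : ψ x = x) (h2 : ψ (c * x * c⁻¹) = c * x * c⁻¹) :
    c⁻¹ * ψ c * x = x * (c⁻¹ * ψ c) := by
  rw [map_mul, map_mul, map_inv, h1] at h2
  calc _ = c⁻¹ * (ψ c * x * (ψ c)⁻¹) * ψ c := by group
    _ = _ := by rw [h2]; group

omit [Finite L] in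
theorem fix_three {ψ : MulAut L} {c g : L} (e : c⁻¹ * ψ c = g) (c3 : c * c * c = 1) (g2 : g * g = 1)
    (h : c * g = g * c) : ψ c = c := by
  have h1 : ψ c = c * g := by rw [← e]; group
  have h2 := congrArg ψ c3
  rw [map_mul, map_mul, map_one, h1, show c * g * (c * g) * (c * g) = c * (g * c) * (g * c) * g by group, ← h,
    show c * (c * g) * (c * g) * g = c * c * (g * c) * (g * g) by group, ← h, g2, mul_one, ← mul_assoc, c3,
    one_mul] at h2
  rw [h1, h2, mul_one]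

/-- an automorphism centralising `Q` -/
theorem aut_Q (A : Amal Q z q u n y r) (mx : ∀ K : Subgroup L, Cx z ≤ K → r ∈ K → K = ⊤) {ψ : MulAut L}
    (h : ∀ i, ψ (q i) = q i) : ψ = 1 ∨ ψ = MulAut.conj z := by
  have f := A.fr
  have es := A.pre.es
  have hQ : ∀ x ∈ Q, ψ x = x := f.five.gen (ψ.toMonoidHom.eqLocus (MonoidHom.id L)) h
  have k3 : ∀ c, c * z = z * c → c * c * c = 1 → ψ c = c := fun c hc c3 => by
    rcases A.pre.cent (c⁻¹ * ψ c) fun x hx =>
      (comm_of_fix (hQ x hx) (hQ _ (A.pre.norm c hc x hx))).symm with e | e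
    · exact fix_three e c3 (mul_one 1) (by rw [mul_one, one_mul])
    · exact fix_three e c3 es.mul_self hc
  have hy := k3 y f.yz f.y3
  have hu : ψ u = u := by
    have := k3 (y * u) (by rw [mul_assoc, f.uz, ← mul_assoc, f.yz, mul_assoc]) f.yu
    rwa [map_mul, hy, mul_right_inj] at this
  have hn : ψ n = n := by
    have := k3 (u * n) (by rw [mul_assoc, f.nz, ← mul_assoc, f.uz, mul_assoc]) f.un
    rwa [map_mul, hu, mul_right_inj] at this
  have hC : ∀ c, c * z = z * c → ψ c = c := fun c hc =>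
    f.gen (ψ.toMonoidHom.eqLocus (MonoidHom.id L)) h hu hn hy (mem_Cx.2 hc)
  have ze := A.ze
  have q3 := f.five.sq 3
  have an : q 3 * q 4 * q 3 = q 4 * z := by
    rw [f.five.anti 3 4 (by decide), mul_assoc, mul_assoc, q3, mul_one, ze]
  have h1 : r * (r⁻¹ * ψ r) * r⁻¹ * (q 3 * (r⁻¹ * ψ r) * q 3) = 1 := by
    have h2 := congrArg ψ A.rd
    have h3 : r⁻¹ = q 3 * r * q 3 := by
      rw [inv_eq_iff_mul_eq_one, ← A.rd]; group
    rw [map_mul, map_mul, h, map_one] at h2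
    rw [← h2]
    nth_rewrite 3 [h3]
    rw [mul_inv_cancel_left, show ψ r * r⁻¹ * (q 3 * (q 3 * r * q 3 * ψ r) * q 3) =
      ψ r * r⁻¹ * (q 3 * q 3) * r * q 3 * ψ r * q 3 by group, q3]
    group
  rcases cen_Y A.toSpl (g := r⁻¹ * ψ r)
    (comm_of_fix (hQ _ es.mem) (by rw [A.rz]; exact hQ _ (mul_mem es.mem (f.five.mem 4))))
    (comm_of_fix hu (by rw [A.ru, map_mul, map_mul, map_inv, hu, hy]))
    (comm_of_fix hy (by rw [A.ry, mul_inv_cancel_right, hy])) with e | e | e | e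
  · exact .inl (MulEquiv.ext fun x => (mx (ψ.toMonoidHom.eqLocus (MonoidHom.id L))
      (fun c hc => hC c (mem_Cx.1 hc)) (inv_mul_eq_one.1 e).symm).ge (mem_top x))
  · rw [e, A.rz, mul_assoc (q 3), ← es.comm_z _ (f.five.mem 3), ← mul_assoc (q 3), q3, one_mul, ← ze,
      mul_assoc, es.mul_self, mul_one] at h1
    exact absurd h1 (f.five.ne_one A.pre 4)
  · rw [e, A.re, an, ze, ← mul_assoc, es.mul_self, one_mul] at h1
    exact absurd h1 (f.five.ne_one A.pre 4)
  · refine .inr (MulEquiv.ext fun x => (mx (ψ.toMonoidHom.eqLocus (MulAut.conj z).toMonoidHom)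
      (fun c hc => ?_) ?_).ge (mem_top x))
    · show ψ c = z * c * z⁻¹
      rw [hC c (mem_Cx.1 hc), ← mem_Cx.1 hc, mul_inv_cancel_right]
    · show ψ r = z * r * z⁻¹
      rw [inv_mul_eq_iff_eq_mul.1 e, inv_eq_of_mul_eq_one_right es.mul_self, ← ze]
      nth_rewrite 2 [← A.re]
      group

omit [Finite L] in
theorem fix_q (f : Frame Q z q u n y 1) {ψ : MulAut L} (hu : ψ u = u) (hy : ψ y = y) (h3 : ψ (q 3) = q 3)
    (h4 : ψ (q 4) = q 4) (i : Fin 5) : ψ (q i) = q i := by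
  have h2 : ψ (q 2) = q 2 := by
    rw [show q 2 = _ from (f.uq 3).symm, map_mul, map_mul, map_inv, hu, h3]
  have h0 : ψ (q 0) = q 0 := by
    rw [show q 0 = _ from (f.yq 2).symm, map_mul, map_mul, map_inv, hy, h2]
  have h1 : ψ (q 1) = q 1 := by
    rw [show q 1 = _ from (f.yq 0).symm, map_mul, map_mul, map_inv, hy, h0]
  fin_cases i
  exacts [h0, h1, h2, h3, h4]

/-- an automorphism centralising `P0` -/
theorem aut_P (A : Amal Q z q u n y r) (mx : ∀ K : Subgroup L, Cx z ≤ K → r ∈ K → K = ⊤) {ψ : MulAut L}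
    (hz : ψ z = z) (h4 : ψ (q 4) = q 4) (hu : ψ u = u) (hw : ψ (y * u * y⁻¹) = y * u * y⁻¹)
    (hu' : ψ (q 3 * u * q 3) = q 3 * u * q 3)
    (hw' : ψ (q 3 * (y * u * y⁻¹) * q 3) = q 3 * (y * u * y⁻¹) * q 3) :
    ∃ a, (a = 1 ∨ a = z ∨ a = q 4 ∨ a = q 4 * z) ∧ ψ = MulAut.conj a := by
  have f := A.fr
  have es := A.pre.es
  have ze := A.ze
  have q3 := f.five.sq 3
  have q4 := f.five.sq 4
  have i3 := f.five.inv_eq 3
  have an : q 3 * q 4 * q 3 = q 4 * z := by
    rw [f.five.anti 3 4 (by decide), mul_assoc, mul_assoc, q3, mul_one, ze]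
  have z3 := es.comm_z _ (f.five.mem 3)
  have hy : ψ y = y := by
    have zq : z * q 4 * (z * q 4) = 1 := by
      rw [mul_assoc, ← mul_assoc (q 4), ze, mul_assoc, q4, mul_one, es.mul_self]
    rcases cen_U A.toSpl (g := y⁻¹ * ψ y) (comm_of_fix hz (by rw [f.yz, mul_inv_cancel_right, hz]))
      (comm_of_fix hu hw) (comm_of_fix hu' (by
        rwa [show y * (q 3 * u * q 3) * y⁻¹ = y * q 3 * y⁻¹ * (y * u * y⁻¹) * (y * q 3 * y⁻¹) by group,
          f.yd, mul_inv_cancel_right])) with e | e | e | e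
    exacts [fix_three e f.y3 (mul_one 1) (by rw [mul_one, one_mul]), fix_three e f.y3 es.mul_self f.yz,
      fix_three e f.y3 q4 f.ye,
      fix_three e f.y3 zq (by rw [← mul_assoc, f.yz, mul_assoc, f.ye, mul_assoc])]
  have h1 : q 3 * ((q 3)⁻¹ * ψ (q 3)) * q 3 * ((q 3)⁻¹ * ψ (q 3)) = 1 := by
    rw [mul_inv_cancel_left, mul_assoc, mul_inv_cancel_left, ← map_mul, q3, map_one]
  rcases cen_U A.toSpl (g := (q 3)⁻¹ * ψ (q 3)) (comm_of_fix hz (by rw [z3, mul_inv_cancel_right, hz]))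
    (comm_of_fix hu (by rwa [i3])) (comm_of_fix hu' (by
      rwa [i3, show q 3 * (q 3 * u * q 3) * q 3 = q 3 * q 3 * u * (q 3 * q 3) by group, q3, one_mul,
        mul_one])) with e | e | e | e
  · rcases aut_Q A mx (fix_q f hu hy (inv_mul_eq_one.1 e).symm h4) with h | h
    exacts [⟨1, .inl rfl, by rw [h, map_one]⟩, ⟨z, .inr (.inl rfl), h⟩]
  · have h2 := aut_Q A mx (ψ := (MulAut.conj (q 4))⁻¹ * ψ) (fix_q f ?_ ?_ ?_ ?_)
    · rcases h2 with h | h <;> rw [inv_mul_eq_iff_eq_mul] at h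
      exacts [⟨q 4, .inr (.inr (.inl rfl)), by rw [h, mul_one]⟩,
        ⟨q 4 * z, .inr (.inr (.inr rfl)), by rw [h, map_mul]⟩]
    all_goals rw [MulAut.mul_apply, MulAut.conj_inv_apply]
    · rw [hu, mul_assoc, f.ue, inv_mul_cancel_left]
    · rw [hy, mul_assoc, f.ye, inv_mul_cancel_left]
    · rw [inv_mul_eq_iff_eq_mul.1 e, mul_assoc, mul_assoc, ← ze, ← an, inv_mul_eq_iff_eq_mul, ← mul_assoc,
        ← mul_assoc, q3, one_mul]
    · rw [h4, inv_mul_cancel, one_mul]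
  · rw [e, an, ze, mul_assoc, q4, mul_one] at h1
    exact absurd h1 es.ne_one
  · rw [e, ← mul_assoc (q 3), z3, mul_assoc z, mul_assoc z, an, ze, ← mul_assoc z, es.mul_self, one_mul,
      ← mul_assoc, ze, mul_assoc, q4, mul_one] at h1
    exact absurd h1 es.ne_one

/-- an odd group and a 2-group normalising each other -/
theorem cen_of_norm {W P : Subgroup L} (hW : Odd (Nat.card W)) (hP : IsPGroup 2 P) {x : L} (hx : x ∈ P)
    (h1 : x ∈ normalizer (W : Set L)) (h2 : ∀ w ∈ W, w * x * w⁻¹ ∈ P) : W ≤ Cx x := fun w hw =>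
  mem_Cx.2 (by
    have := SLE.eq_one_of_odd' hP hW (P.mul_mem (h2 w hw) (P.inv_mem hx)) (by
      rw [mul_assoc, mul_assoc, ← mul_assoc x]
      exact W.mul_mem hw (conj_mem_of_mem_normalizer h1 (W.inv_mem hw)))
    rwa [mul_inv_eq_one, mul_inv_eq_iff_eq_mul] at this)

theorem cen_line (A : Amal Q z q u n y r) {W : Subgroup L} (hW : Odd (Nat.card W))
    (h1 : z ∈ normalizer (W : Set L)) (h2 : q 4 ∈ normalizer (W : Set L)) : W ≤ Cx z ⊓ Cx (q 4) := by
  have : Fact (Nat.Prime 2) := ⟨Nat.prime_two⟩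
  have f := A.fr
  have es := A.pre.es
  have key : ∀ g a x : L, g * a * g⁻¹ = z → g * x * g⁻¹ ∈ Q → x * a = a * x → x ∈ normalizer (W : Set L) →
      W ⊓ Cx a ≤ Cx x := fun g a x e hx xa hn => by
    refine cen_of_norm (P := cj g⁻¹ Q) (hW.of_dvd_nat (card_dvd_of_le inf_le_left))
      ((IsPGroup.of_card (n := 5) A.cardQ).map _) (mem_cj.2 (by rwa [inv_inv]))
      (mem_normalizer_of_forall fun w hw => ⟨conj_mem_of_mem_normalizer hn hw.1,
        (Cx a).mul_mem ((Cx a).mul_mem (mem_Cx.2 xa) hw.2) ((Cx a).inv_mem (mem_Cx.2 xa))⟩) fun w hw => ?_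
    have := A.pre.norm (g * w * g⁻¹) (e ▸ comm_conj (mem_Cx.1 hw.2)) _ hx
    rw [mem_cj]
    convert this using 1
    group
  refine UFP.le_of_four hW es.mul_self (f.five.sq 4) A.ze.symm es.ne_one (f.five.ne_one A.pre 4)
    (fun e => f.five.ne_z A.pre 4 ?_) h1 h2
    (le_inf inf_le_right (key 1 z _ (by group) (by simpa using f.five.mem 4) A.ze h2))
    (le_inf (key r _ z A.re (A.rz ▸ mul_mem es.mem (f.five.mem 4)) A.ze.symm h1) inf_le_right) ?_
  · rw [eq_inv_of_mul_eq_one_right e, inv_eq_of_mul_eq_one_right es.mul_self]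
  · have h3 := key r⁻¹ (z * q 4) z (by rw [← A.rz]; group) (by
      rw [← A.re]; simpa [mul_assoc] using f.five.mem 4) (by rw [mul_assoc, A.ze]) h1
    refine le_inf h3 fun w hw => mem_Cx.2 ?_
    have h4 := mem_Cx.1 hw.2
    rwa [← mul_assoc, mem_Cx.1 (h3 hw), mul_assoc, mul_assoc, mul_right_inj] at h4

theorem cen_q (A : Amal Q z q u n y r) {W : Subgroup L} (hW : Odd (Nat.card W)) (i : Fin 5)
    (h1 : z ∈ normalizer (W : Set L)) (h2 : q i ∈ normalizer (W : Set L)) : W ≤ Cx (q i) := by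
  obtain ⟨c, hc, e⟩ := A.fr.five.conj i
  have h3 := cen_line A (W := cj c W) (by rwa [card_cj])
    (by rw [← cj_normalizer, ← mul_inv_eq_iff_eq_mul.2 hc]; exact conj_mem_cj.2 h1)
    (by rw [← cj_normalizer, ← e]; exact conj_mem_cj.2 h2)
  intro w hw
  have h4 : c * w * c⁻¹ ∈ centralizer {q 4} := (h3 (conj_mem_cj.2 hw)).2
  rwa [← e, ← cj_centralizer_singleton, conj_mem_cj] at h4

end CfsgLib.SJW
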