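import Cfsg.Agent.Lib.SJW.JA

/-!
# The facts `PF` from the amalgam of Hall-Janko type
-/

set_option autoImplicit false
set_option linter.unusedSectionVars false
set_option maxRecDepth 100000
set_option synthInstance.maxSize 100000
set_option Elab.async false

namespace CfsgLib.SJW

open Subgroup Cfsg CfsgLib.Tech CfsgLib.W2 CfsgLib.HJ CfsgLib.SylT Function

variable {L : Type} [Group L] [Finite L] {Q : Subgroup L} {z : L} {q : Fin 5 → L} {u n y r : L}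

theorem exists_phi (S : Spl Q z q u n y) : ∃ φ : TJ →* L, Injective φ ∧ φ TJ.z = z ∧ (∀ i, φ (TJ.q i) = q i) ∧
    φ TJ.u = u ∧ φ TJ.w = y⁻¹ * u * y ∧ φ (TJ.u * TJ.w) = y * u * y⁻¹ := by
  have e : ∀ l : List ℕ, ew (fun i => ev (fl z q u n y 1) (TJ.pw i)) l =
      ev (fl z q u n y 1) (l.flatMap TJ.pw) := fun l => by
    induction l with
    | nil => rfl
    | cons a l ih => rw [List.flatMap_cons, ev_append, ← ih]; rfl
  have c : ∀ i < 7, eqW ccT 10 (TJ.pw i ++ TJ.pw i) [] = true ∧ ∀ j < 7, i < j →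
      eqW ccT 10 (TJ.pw i ++ TJ.pw j) ((TJ.pcj i j).flatMap TJ.pw ++ TJ.pw i) = true := by decide +kernel
  obtain ⟨φ, hφ⟩ := TJ.exists_hom (x := fun i => ev (fl z q u n y 1) (TJ.pw i)) fun i hi =>
    ⟨by rw [← ev_append, S.eq 1 (c i hi).1]; rfl, fun j hj hij => by
      rw [← ev_append, S.eq 1 ((c i hi).2 j hj hij), ev_append, e]⟩
  have hz : φ TJ.z = z := (hφ 6 (by norm_num)).trans (mul_one _)
  have h0 : φ (TJ.q 0) = q 0 := (congrArg φ (by decide +kernel)).trans ((hφ 2 (by norm_num)).trans (mul_one _))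
  have h1 : φ (TJ.q 1) = q 1 := (congrArg φ (by decide +kernel)).trans ((hφ 3 (by norm_num)).trans (mul_one _))
  have h2 : φ (TJ.q 2) = q 2 := (congrArg φ (by decide +kernel)).trans ((hφ 4 (by norm_num)).trans (mul_one _))
  have h3 : φ (TJ.q 3) = q 3 := (congrArg φ (by decide +kernel)).trans ((hφ 5 (by norm_num)).trans (mul_one _))
  have h4 : φ (TJ.q 4) = q 4 := by
    have h5 := congrArg φ (show TJ.q 0 * TJ.q 1 * TJ.q 2 * TJ.q 3 * TJ.q 4 = 1 by decide +kernel)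
    rw [map_mul, map_mul, map_mul, map_mul, h0, h1, h2, h3, map_one, ← S.fr.five.prod] at h5
    exact mul_left_cancel h5
  have hu : φ TJ.u = u := (congrArg φ (by decide +kernel)).trans ((hφ 0 (by norm_num)).trans (mul_one _))
  have hw : φ TJ.w = y⁻¹ * u * y := (congrArg φ (by decide +kernel)).trans ((hφ 1 (by norm_num)).trans (by
    simp only [TJ.pw, List.getD_cons_succ, List.getD_cons_zero, ev_cons, ev_nil, mul_one, ltsE, mul_assoc]))
  refine ⟨φ, TJ.inj_of (hz ▸ S.pre.es.ne_one), hz, fun i => ?_, hu, hw, ?_⟩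
  · fin_cases i
    exacts [h0, h1, h2, h3, h4]
  · rw [map_mul, hu, hw]
    simpa only [ev_cons, ev_nil, mul_one, mul_assoc, ltsE] using
      S.eq 1 (v := [7, 10, 7, 9]) (w := [9, 7, 10]) (by decide +kernel)

omit [Finite L] in
theorem hat_of {T : Subgroup L} {a : L} (a2 : a * a = 1) (ha : a ∈ T) (h : ∀ W : Subgroup L, Odd (Nat.card W) →
    T ⊓ Cx a ≤ normalizer (W : Set L) → W ≤ Cx a) : HatL T a :=
  ⟨a2, T ⊓ Cx a, inf_le_left, ⟨ha, mem_Cx.2 rfl⟩, fun _ hb => (mem_Cx.1 hb.2).symm,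
    fun W h1 h2 _ hw => mem_Cx.1 (h W h1 h2 hw)⟩

theorem pf_of (A : Amal Q z q u n y r) (mx : ∀ K : Subgroup L, Cx z ≤ K → r ∈ K → K = ⊤)
    (hs : IsSimpleGroup L) (hc : Nat.card L = 604800) (idx : (Inn L).index = 2)
    (out : ∀ ψ : MulAut L, ψ * ψ = 1 → ψ ∉ Inn L →
      ∃ X : Subgroup L, IsPGroup 2 X ∧ 16 ≤ Nat.card X ∧ ∀ a ∈ X, ψ a = a) :
    ∃ T B R, PF z T B R := by
  have : Fact (Nat.Prime 2) := ⟨Nat.prime_two⟩
  obtain ⟨φ, hi, hz, hq, hu, hw, hw'⟩ := exists_phi A.toSpl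
  have f := A.fr
  have es := A.pre.es
  have hv : φ TJ.vv = q 4 := hq 4
  have cT : Nat.card φ.range = 2 ^ 7 := by
    rw [← Nat.card_congr (MonoidHom.ofInjective hi).toEquiv, TJ.card_T]; rfl
  have pT : IsPGroup 2 φ.range := IsPGroup.of_card cT
  have hQ : TJ.Q.map φ = Q := (eq_of_le_of_card_ge (f.five.gen (TJ.Q.map φ) fun i =>
    ⟨TJ.q i, (by decide +kernel : ∀ i, TJ.InQ (TJ.q i)) i, hq i⟩)
    (by rw [card_map_of_injective hi, TJ.card_Q, A.cardQ])).symm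
  have mR : ∀ p, TJ.InR p → φ p ∈ TJ.R.map φ := fun p hp => mem_map_of_mem _ hp
  have mP : ∀ g, g * z = z * g → g * q 4 = q 4 * g → g * g * (g * g) = 1 → g ∈ TJ.R.map φ :=
    fun g => mem_P A.toSpl (by
      simp only [gP, List.forall_mem_cons, ev_cons, ev_nil, mul_one, ltsE]
      refine ⟨hz ▸ mR _ (by decide +kernel), hv ▸ mR _ (by decide +kernel), hu ▸ mR _ (by decide +kernel),
        ?_, ?_, ?_, by simp⟩
      · rw [← mul_assoc, ← hw]; exact mR _ (by decide +kernel)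
      · rw [← hu, ← hq, ← map_mul, ← map_mul]; exact mR _ (by decide +kernel)
      · rw [← mul_assoc y⁻¹, ← mul_assoc (y⁻¹ * u), ← hw, ← hq, ← map_mul, ← map_mul]
        exact mR _ (by decide +kernel))
  have nP : ∀ g, (∀ x, x * z = z * x → x * q 4 = q 4 * x →
      g * x * g⁻¹ * z = z * (g * x * g⁻¹) ∧ g * x * g⁻¹ * q 4 = q 4 * (g * x * g⁻¹)) →
      ∀ x ∈ TJ.R.map φ, g * x * g⁻¹ ∈ TJ.R.map φ := by
    rintro g hg _ ⟨p, hp, rfl⟩
    obtain ⟨h1, h2⟩ := hg (φ p) (by rw [← hz, ← map_mul, TJ.zc, map_mul])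
      (by rw [← hv, ← map_mul, (TJ.inR_iff p).1 hp, map_mul])
    refine mP _ h1 h2 ?_
    rw [show g * φ p * g⁻¹ * (g * φ p * g⁻¹) * (g * φ p * g⁻¹ * (g * φ p * g⁻¹)) =
      g * (φ p * φ p * (φ p * φ p)) * g⁻¹ by group, ← map_mul, ← map_mul,
      (by decide +kernel : ∀ p, TJ.InR p → p * p * (p * p) = 1) p hp, map_one, mul_one, mul_inv_cancel]
  have zT : ∀ a ∈ φ.range, a * z = z * a := by
    rintro _ ⟨p, rfl⟩
    rw [← hz, ← map_mul, TJ.zc, map_mul]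
  have hatP : ∀ p : TJ, TJ.InR p → p * p = 1 → HatL φ.range (φ p) := fun p hp p2 =>
    hat_of (by rw [← map_mul, p2, map_one]) ⟨p, rfl⟩ fun W hW h => by
      have h1 := cen_line A hW (h ⟨⟨_, hz⟩, mem_Cx.2 (zT _ ⟨p, rfl⟩).symm⟩)
        (h ⟨⟨_, hv⟩, mem_Cx.2 (by rw [← hv, ← map_mul, ← (TJ.inR_iff p).1 hp, map_mul])⟩)
      refine cen_of_norm hW (pT.to_le (map_le_range _ _)) (mR p hp) (h ⟨⟨p, rfl⟩, mem_Cx.2 rfl⟩)
        fun w hw => nP w (fun x h2 h3 => ?_) _ (mR p hp)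
      exact ⟨mem_Cx.1 (mul_mem (mul_mem (h1 hw).1 (mem_Cx.2 h2)) (inv_mem (h1 hw).1)),
        mem_Cx.1 (mul_mem (mul_mem (h1 hw).2 (mem_Cx.2 h3)) (inv_mem (h1 hw).2))⟩
  have aQ := fun {ψ : MulAut L} => aut_Q A mx (ψ := ψ)
  refine ⟨φ.range, TJ.V.map φ, fun i => (cond i TJ.Q TJ.R).map φ, hs, ?_, es.mul_self, es.ne_one,
    ⟨le_top, pT, ?_⟩, cT, idx, fun a b a2 b2 => ?_, zT, fun ψ h => aQ fun i => h _ ⟨_, hq i⟩, fun ψ h2 => ?_,
    fun i => map_le_range _ _, fun i => ?_, fun K hK => mx K (fun c hc => hK true ?_) (hK false ?_),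
    fun i ψ h => ?_, fun i => ?_, hz ▸ hatP _ (by decide +kernel) TJ.zz, map_le_range _ _, ?_,
    ⟨z, ⟨_, (by decide +kernel : TJ.InV TJ.z), hz⟩, q 4, ⟨_, (by decide +kernel : TJ.InV TJ.vv), hv⟩,
      es.ne_one, f.five.ne_one A.pre 4, (f.five.ne_z A.pre 4).symm⟩, fun ψ h => ?_⟩
  · obtain ⟨a, -, b, -, h⟩ := es.nonab
    exact ⟨a, b, h⟩
  · have h3 := φ.range.card_mul_index
    rw [cT, hc] at h3
    rw [relIndex_top_right]; omega
  · by_cases a1 : a = 1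
    · exact .inr (.inl (.inl a1))
    by_cases b1 : b = 1
    · exact .inr (.inr (.inl b1))
    rcases A.invol_conj a2 a1 with h | h
    · exact .inr (.inl (.inr h))
    rcases A.invol_conj b2 b1 with h' | h'
    · exact .inr (.inr (.inr h'))
    · exact .inl (h.symm.trans h')
  · by_cases hn : ψ ∈ Inn L
    swap
    · exact out ψ h2 hn
    obtain ⟨d, rfl⟩ := hn
    have d2 : d * d = 1 := by
      rcases (inferInstance : (center L).Normal).eq_bot_or_eq_top with c | c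
      · refine mem_bot.1 (c.le (mem_center_iff.2 fun b => ?_))
        have := congrArg (fun φ : MulAut L => φ b) ((map_mul MulAut.conj d d).trans h2)
        exact (mul_inv_eq_iff_eq_mul.1 this).symm
      · obtain ⟨a, -, b, -, h⟩ := es.nonab
        exact absurd (mem_center_iff.1 (c.ge (mem_top b)) a) h
    obtain ⟨l, p, hp, rfl⟩ : ∃ l p, TJ.InA p ∧ l * φ p * l⁻¹ = d := by
      by_cases d1 : d = 1
      · exact ⟨1, 1, by decide +kernel, by simp [d1]⟩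
      rcases A.invol_conj d2 d1 with h | h <;> obtain ⟨l, rfl⟩ := isConj_iff.1 h
      exacts [⟨l, TJ.z, by decide +kernel, by rw [hz]⟩, ⟨l, TJ.u, by decide +kernel, by rw [hu]⟩]
    refine ⟨cj l (TJ.A.map φ), (pT.to_le (map_le_range _ _)).map _,
      by rw [card_cj, card_map_of_injective hi, TJ.card_A], ?_⟩
    rintro _ ⟨_, ⟨s, hs, rfl⟩, rfl⟩
    show l * φ p * l⁻¹ * (l * φ s * l⁻¹) * (l * φ p * l⁻¹)⁻¹ = l * φ s * l⁻¹
    rw [show l * φ p * l⁻¹ * (l * φ s * l⁻¹) = l * (φ p * φ s) * l⁻¹ by group, ← map_mul,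
      (by decide +kernel : ∀ p, TJ.InA p → ∀ s, TJ.InA s → p * s = s * p) p hp s hs, map_mul]
    group
  · rintro _ ⟨s, rfl⟩
    refine mem_normalizer_of_forall ?_
    rintro _ ⟨p, hp, rfl⟩
    refine ⟨s * p * s⁻¹, ?_, by rw [map_mul, map_mul, map_inv]⟩
    cases i
    exacts [TJ.R_conj s p hp, TJ.Q_conj s p hp]
  · show c ∈ normalizer ((TJ.Q.map φ : Subgroup L) : Set L)
    rw [hQ]
    exact mem_normalizer_of_forall (A.pre.norm c (mem_Cx.1 hc))
  · refine mem_normalizer_of_forall (nP r fun x h1 h2 => ⟨A.re ▸ comm_conj h2, A.rze ▸ comm_conj ?_⟩)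
    rw [← mul_assoc, h1, mul_assoc, h2, mul_assoc]
  · cases i
    · have k : ∀ p, TJ.InR p → ψ (φ p) = φ p := fun p hp => h _ (mR p hp)
      obtain ⟨a, ha, rfl⟩ := aut_P A mx (ψ := ψ) (hz ▸ k _ (by decide +kernel)) (hv ▸ k _ (by decide +kernel))
        (hu ▸ k _ (by decide +kernel)) (hw' ▸ k _ (by decide +kernel))
        (by rw [← hu, ← hq, ← map_mul, ← map_mul]; exact k _ (by decide +kernel))
        (by rw [← hw', ← hq, ← map_mul, ← map_mul]; exact k _ (by decide +kernel))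
      obtain ⟨p, hp, rfl⟩ : ∃ p, TJ.InV p ∧ φ p = a := by
        rcases ha with rfl | rfl | rfl | rfl
        exacts [⟨1, by decide +kernel, map_one _⟩, ⟨_, by decide +kernel, hz⟩, ⟨_, by decide +kernel, hv⟩,
          ⟨TJ.vv * TJ.z, by decide +kernel, by rw [map_mul, hz, hv]⟩]
      exact ⟨φ p, mR p ((by decide +kernel : ∀ p, TJ.InV p → TJ.InR p) p hp),
        by rw [← map_mul, (TJ.invol p).2 (.inl hp), map_one], rfl⟩
    · have zq : z ∈ TJ.Q.map φ := hQ ▸ es.mem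
      rcases aQ (ψ := ψ) fun i => h _ (show q i ∈ TJ.Q.map φ from hQ ▸ f.five.mem i) with e | e
      exacts [⟨1, one_mem _, mul_one 1, by rw [e, map_one]⟩, ⟨z, zq, es.mul_self, e⟩]
  · cases i
    · rintro _ ⟨p, hp, rfl⟩
      refine TG.map_mem_of_sp φ (gs := [TJ.u, TJ.w, TJ.q 3 * TJ.u * TJ.q 3, TJ.q 3 * TJ.w * TJ.q 3]) (D := 8)
        (fun g hg => subset_closure (hatP g ?_ ?_)) ((by decide +kernel : ∀ p, TJ.InR p → bit (TG.sp
          [TJ.u, TJ.w, TJ.q 3 * TJ.u * TJ.q 3, TJ.q 3 * TJ.w * TJ.q 3] 8) p.v = true) p hp)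
      all_goals
        simp only [List.mem_cons, List.not_mem_nil, or_false] at hg
        rcases hg with rfl | rfl | rfl | rfl <;> decide +kernel
    · show TJ.Q.map φ ≤ _
      rw [hQ]
      exact f.five.gen _ fun i => subset_closure (hat_of (f.five.sq i) ⟨_, hq i⟩ fun W hW h =>
        cen_q A hW i (h ⟨⟨_, hz⟩, mem_Cx.2 (es.comm_z _ (f.five.mem i)).symm⟩) (h ⟨⟨_, hq i⟩, mem_Cx.2 rfl⟩))
  · rintro _ ⟨p, hp, rfl⟩
    rw [← map_mul, (TJ.invol p).2 (.inl hp), map_one]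
  · rintro _ ⟨p, hp, rfl⟩
    obtain ⟨s, rfl⟩ := (by decide +kernel : ∀ p, TJ.InV p → ∃ s, s * s = p) p hp
    obtain ⟨s', e⟩ := h _ ⟨s, rfl⟩
    refine ⟨s' * s', TJ.sq_V s' (hi ?_), by rw [map_mul, map_mul, map_mul, e]⟩
    rw [map_mul, map_mul, e, ← map_mul ψ, ← map_mul ψ, ← map_mul, ← map_mul, (TJ.invol _).2 (.inl hp),
      map_one, map_one]

end CfsgLib.SJW
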