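import Cfsg.Agent.Lib.SJW.U

/-!
# The wreathed case is impossible
-/

set_option autoImplicit false
set_option linter.unusedSectionVars false

namespace CfsgLib.SJW

open Subgroup Cfsg CfsgLib.Tech CfsgLib.W2 Function
open scoped Pointwise

universe u

variable {L : Type} {G : Type u} [Group L] [Group G] [Finite L] [Finite G]
  {z : L} {T A : Subgroup L} {R : Bool → Subgroup L} {ι ι₁ ι₂ : L →* G} {t : G} {K : Subgroup G}

theorem norm_map {X : Subgroup L} {m : L} (h : m ∈ normalizer (X : Set L)) :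
    ι m ∈ normalizer (X.map ι : Set G) := mem_normalizer_of_forall (by
  rintro _ ⟨e, he, rfl⟩
  exact ⟨m * e * m⁻¹, conj_mem_of_mem_normalizer h he, by rw [map_mul, map_mul, map_inv]⟩)

theorem PF.odd_inn (H : PF z T A R) {φ : MulAut L} {m : ℕ} (hm : Odd m) (h : φ ^ m = 1) : φ ∈ Inn L := by
  obtain ⟨k, rfl⟩ := hm
  by_contra hn
  have h1 : (φ * φ) ^ k * φ ∈ Inn L := by rw [← pow_two, ← pow_mul, ← pow_succ, h]; exact one_mem _
  exact hn ((Subgroup.mul_mem_cancel_left _ (pow_mem (H.out hn hn) k)).1 h1)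

namespace Pd

variable (d : Pd ι t ι₁ ι₂) (H : PF z T A R)
include d H

theorem hat {a : L} (ha : HatL T a) : UFP.Hat t (T.map ι) (ι a) := by
  obtain ⟨a2, B, b1, b2, b3, b4⟩ := ha
  refine ⟨ι₁ a, B.map ι, (d.conj_one a2).symm, mem_map_of_mem _ b2, map_mono b1, ?_,
    fun V hV h1 h2 v hv => ?_⟩
  · rintro _ ⟨b, hb, rfl⟩
    exact mem_Cx.2 (d.comm_i (b3 b hb))
  obtain ⟨π, hπ⟩ := d.exists_π
  have hY : Odd (Nat.card ((V.subgroupOf (Cx t)).map π)) :=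
    hV.of_dvd_nat ((card_map_dvd _ _).trans (by rw [Nat.card_congr (subgroupOfEquivOfLe h1).toEquiv]))
  obtain ⟨w, hw⟩ := H.odd_inn (φ := π ⟨v, h1 hv⟩) hV (by
    rw [← map_pow, show (⟨v, h1 hv⟩ : Cx t) ^ Nat.card V = 1 from
      Subtype.ext (congrArg Subtype.val (pow_card_eq_one' (G := V) (x := ⟨v, hv⟩)) :), map_one])
  have h3 := b4 (((V.subgroupOf (Cx t)).map π).comap (MulAut.conj : L →* MulAut L))
    (hY.of_dvd_nat (card_comap_dvd_of_injective _ _ H.conj_inj)) (fun e he => mem_normalizer_of_forall ?_)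
    w ⟨⟨v, h1 hv⟩, hv, hw.symm⟩
  · refine mem_Cx.2 (mul_inv_eq_iff_eq_mul.1 ?_)
    rw [hπ ⟨v, h1 hv⟩, ← hw, MulAut.conj_apply, h3, mul_inv_cancel_right]
  · rintro x ⟨y, hy, e1⟩
    have c : ι e ∈ Cx t := mem_Cx.2 (d.tC _).symm
    have e4 : π ⟨_, c⟩ = MulAut.conj e := (hπ ⟨_, c⟩).unique d.inj0 (ac_i e)
    refine ⟨⟨_, c⟩ * y * (⟨_, c⟩ : Cx t)⁻¹, UFP.conj_mem (h2 (mem_map_of_mem _ he)) hy, ?_⟩
    rw [map_mul, map_mul, map_inv, e4, e1, map_mul, map_mul, map_inv]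

omit H in
theorem ac1 (a b : L) : Ac ι₁ (ι₁ a * ι₂ b) (MulAut.conj a) := by
  have := (ac_i a).mul (ac_one_iff.2 (show CL ι₁ (ι₂ b) from fun c => (d.com c b).symm))
  rwa [mul_one] at this

omit H in
theorem cen0 {c : G} (h1 : CL ι₁ c) (h2 : CL ι₂ c) :
    c ∈ centralizer ((ι₁.range ⊔ ι₂.range : Subgroup G) : Set G) := UFP.mem_cent.2 fun e he => by
  obtain ⟨a, b, rfl⟩ := d.mem_G0.1 he
  rw [mul_assoc, ← h2, ← mul_assoc, ← h1, mul_assoc]

theorem idx {g : G} (hg : g ∈ normalizer ((ι₁.range ⊔ ι₂.range : Subgroup G) : Set G)) :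
    (cj g ι₁.range = ι₁.range ∧ cj g ι₂.range = ι₂.range) ∨
      cj (g * t) ι₁.range = ι₁.range ∧ cj (g * t) ι₂.range = ι₂.range :=
  (d.perm H hg).imp_right fun h => by
    rw [cj_mul, cj_mul, d.conj_range, d.symm.conj_range]
    exact h.symm

theorem iso (i : Bool) :
    UFP.Iso (normalizer ((ι₁.range ⊔ ι₂.range : Subgroup G) : Set G)) t ((R i).map ι) := by
  intro m hm hc P hP h1 h2 h3
  obtain ⟨n, ⟨n1, n2⟩, e, hn⟩ : ∃ n, (cj n ι₁.range = ι₁.range ∧ cj n ι₂.range = ι₂.range) ∧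
      m * t * m⁻¹ = n * t * n⁻¹ ∧ ∀ a ∈ R i, n * ι a = ι a * n := by
    have h4 : ∀ a ∈ R i, m * ι a = ι a * m := fun a ha =>
      (UFP.mem_cent.1 hc _ (mem_map_of_mem _ ha)).symm
    rcases d.idx H hm with h | h
    · exact ⟨m, h, rfl, h4⟩
    · exact ⟨m * t, h, by group, fun a ha => by
        rw [mul_assoc, d.tC, ← mul_assoc, h4 a ha, mul_assoc]⟩
  obtain ⟨p, hp⟩ := ac_of_norm d.inj (mem_normalizer_iff_cj.2 n1)
  obtain ⟨q, hq⟩ := ac_of_norm d.symm.inj (mem_normalizer_iff_cj.2 n2)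
  have key : ∀ a ∈ R i, p a = a ∧ q a = a := fun a ha => d.uniq H (by
    rw [← hp, ← hq, ← d.dia, ← mul_inv_eq_iff_eq_mul.2 (hn a ha), d.dia]; group)
  obtain ⟨a, pX, a2, rfl⟩ := H.cenR i p fun a ha => (key a ha).1
  obtain ⟨b, qX, b2, rfl⟩ := H.cenR i q fun a ha => (key a ha).2
  have cm : a * b = b * a := mul_inv_eq_iff_eq_mul.1 (key b qX).1
  have c1 : (ι₁ a * ι₂ b)⁻¹ * n ∈ centralizer ((ι₁.range ⊔ ι₂.range : Subgroup G) : Set G) :=
    d.cen0 (hp.cl (d.ac1 a b)) (hq.cl (d.com a b ▸ d.symm.ac1 b a))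
  have c2 := Subgroup.mul_mem _ c1 (UFP.conj_mem
    (Core.normalizer_le_normalizer_centralizer _ d.t_mem) (Subgroup.inv_mem _ c1))
  have ab : ι (a * b) ∈ (R i).map ι := mem_map_of_mem _ ((R i).mul_mem pX qX)
  have e5 : m * t * m⁻¹ = (ι₁ a * ι₂ b)⁻¹ * n * (t * ((ι₁ a * ι₂ b)⁻¹ * n)⁻¹ * t⁻¹) *
      (t * ι (a * b)) := by
    have h5 := d.conj_t a b
    rw [inv_eq_of_mul_eq_one_right a2, inv_eq_of_mul_eq_one_right b2, ← cm, ← d.dia] at h5
    rw [e, ← h5, ← mul_assoc _ _ (_)⁻¹, ← mul_assoc _ _ t,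
      ← UFP.mem_cent.1 c2 _ (d.mem_G0.2 ⟨a, b, rfl⟩)]
    group
  have h6 := SLE.eq_one_of_odd' hP (d.odd_cen H) (by
    rw [e5] at h3; exact (P.mul_mem_cancel_right (P.mul_mem h2 (h1 ab))).1 h3) c2
  rw [e5, h6, one_mul, inv_mul_cancel_left]
  exact ab

theorem uw : UFP.UW (normalizer ((ι₁.range ⊔ ι₂.range : Subgroup G) : Set G)) t (T.map ι) := by
  have := H.simple
  have zp : ∀ a ∈ zpowers z, a = 1 ∨ a = z := fun a ha => Gold.MainAux.mem_zpowers_invol H.z2 ha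
  have l1 : ι₁.range ≤ ι.range ⊔ (zpowers z).map ι₁ := le_of_norm (fun l a ha => by
    rw [← d.conj_i]
    exact Subgroup.mul_mem _ (Subgroup.mul_mem _ (mem_sup_left ⟨l, rfl⟩) ha)
      (Subgroup.inv_mem _ (mem_sup_left ⟨l, rfl⟩))) H.z1 (mem_sup_right (mem_map_of_mem _ (mem_zpowers z)))
  refine UFP.UWData.uw (L := ι.range) (Zh := (zpowers z).map ι₁) (X := ι '' {a | HatL T a})
    (R := fun i => (R i).map ι) (P := fun i => (normalizer (R i : Set L)).map ι)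
    ⟨⟨true⟩, ?_, ?_, fun i => map_mono (H.TR i), fun i => map_le_range _ _, ?_, fun M hM h => ?_, fun i => ?_,
      fun i => (H.syl.pgroup.to_le (H.RT i)).map _, fun i => ?_, fun i => ?_,
      fun i => d.iso H i, fun i => ?_, ?_, UFP.fin_of (fun M hM h => ?_) ?_⟩ (d.uu H)
  · rintro _ ⟨a, ha, rfl⟩
    exact d.hat H ha
  · rintro _ ⟨a, rfl⟩
    exact mem_Cx.2 (d.tC a).symm
  · rintro _ ⟨a, rfl⟩
    exact (H.gen ((⨆ i : Bool, (normalizer (R i : Set L)).map ι).comap ι)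
      fun i m hm => mem_iSup_of_mem i (mem_map_of_mem _ hm)).ge (mem_top a)
  · refine le_of_norm (fun l a ha => ?_) H.z1 (h _ ⟨z, H.hz, rfl⟩)
    rw [map_mul, map_mul, map_inv]
    exact UFP.conj_mem (hM ⟨l, rfl⟩) ha
  · rw [← MonoidHom.map_closure]
    exact map_mono (H.hat i)
  · rintro _ ⟨m, hm, rfl⟩
    exact norm_map hm
  · rintro ⟨a, -, ha⟩
    exact d.i_ne_t a ha
  · rintro _ ⟨a, ha, rfl⟩
    refine UFP.mem_cent.2 ?_
    rintro _ ⟨b, hb, rfl⟩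
    refine d.comm_i ?_
    rcases zp a ha with rfl | rfl
    · rw [one_mul, mul_one]
    · exact (H.zT b (H.RT i hb)).symm
  · rintro _ ⟨a, ha, rfl⟩
    rcases zp a ha with rfl | rfl
    · rw [map_one, one_mul, inv_one, mul_one, inv_mul_cancel]
      exact one_mem _
    · rw [d.conj_one H.z2, inv_mul_cancel_left]
      exact subset_closure ⟨a, H.hz, rfl⟩
  · obtain ⟨x, y, e⟩ := H.nab
    refine (map_le_range _ _).trans (le_of_norm (φ := ι₁) (z := x * (y * x⁻¹ * y⁻¹)) (fun l a ha => ?_)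
      (fun h => e ?_) ?_)
    · rw [map_mul, map_mul, map_inv]
      exact UFP.conj_mem (hM (l1 ⟨l, rfl⟩)) ha
    · rw [show x * y = x * (y * x⁻¹ * y⁻¹) * (y * x) by group, h, one_mul]
    · have h1 := M.mul_mem (UFP.conj_mem (hM (l1 ⟨x, rfl⟩)) (h ⟨y, rfl⟩)) (M.inv_mem (h ⟨y, rfl⟩))
      rwa [mul_assoc, mul_assoc, ← mul_assoc (ι _), ← map_inv, d.conj_i, ← map_mul] at h1
  · refine (centralizer_le ?_).trans (centralizer_le_normalizer _)
    refine sup_le l1 ?_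
    rintro _ ⟨a, rfl⟩
    rw [← inv_mul_cancel_left (ι₁ a) (ι₂ a), ← d.dia]
    exact Subgroup.mul_mem _ (Subgroup.inv_mem _ (l1 ⟨a, rfl⟩)) (mem_sup_left ⟨a, rfl⟩)

omit H in
theorem c21 : ι₂.range ≤ centralizer (ι₁.range : Set G) := by
  rintro _ ⟨b, rfl⟩
  exact CL_iff.1 fun a => (d.com a b).symm

theorem ac_T {P : Subgroup G} (hP : IsPGroup 2 P) (hU : T.map ι₁ ≤ P) {w : G} (hw : w ∈ P)
    {p : MulAut L} (hp : Ac ι₁ w p) {a : L} (ha : a ∈ T) : p a ∈ T := by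
  have : Fact (Nat.Prime 2) := ⟨Nat.prime_two⟩
  have e : T.map ι₁ = P ⊓ ι₁.range := ((H.syl_map d.inj).eq_of_le (hP.to_le inf_le_left)
    (le_inf hU (H.syl_map d.inj).le) inf_le_right).symm
  obtain ⟨b, hb, e'⟩ : ι₁ (p a) ∈ T.map ι₁ := by
    rw [e]
    exact mem_inf.2 ⟨hp a ▸ P.mul_mem (P.mul_mem hw (hU (mem_map_of_mem _ ha))) (P.inv_mem hw), _, rfl⟩
  exact d.inj e' ▸ hb

theorem false (g : SLE.Glob K t) : False := by
  have : Fact (Nat.Prime 2) := ⟨Nat.prime_two⟩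
  have u := d.uu H
  have ht := d.not_mem H g
  have s1 : ι₁.range ≤ K := g.pf_le (H.perf_range _)
  have s2 : ι₂.range ≤ K := g.pf_le (H.perf_range _)
  have l1 : ι₁.range ≤ normalizer ((ι₁.range ⊔ ι₂.range : Subgroup G) : Set G) :=
    le_sup_left.trans le_normalizer
  have l2 : ι₂.range ≤ normalizer ((ι₁.range ⊔ ι₂.range : Subgroup G) : Set G) :=
    le_sup_right.trans le_normalizer
  have U1 := H.syl_map d.inj
  have U2 := H.syl_map d.symm.inj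
  have tn : t ∈ normalizer ((T.map ι₁ ⊔ T.map ι₂ : Subgroup G) : Set G) := by
    refine UFP.norm_sup ?_ ?_ <;> rintro _ ⟨a, ha, rfl⟩
    · exact mem_sup_right ⟨a, ha, (d.swp a).symm⟩
    · exact mem_sup_left ⟨a, ha, (d.symm.swp a).symm⟩
  obtain ⟨P, h0, h1, hP, syl⟩ := SLE.exists_syl
    ((UFP.pgroup_zpowers_of_sq d.t2).to_sup_of_normal_right'
      (SLE.pg_sup_comm U1.pgroup U2.pgroup (by
        rintro _ ⟨a, -, rfl⟩ _ ⟨b, -, rfl⟩; exact d.com a b)) (zpowers_le.2 tn))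
    (sup_le (zpowers_le.2 u.mem) (sup_le (U1.1.trans l1) (U2.1.trans l2)))
  have hU : T.map ι₁ ≤ P := (le_sup_left.trans le_sup_right).trans h0
  have tP : t ∈ P := h0 (mem_sup_left (mem_zpowers t))
  have tN := d.tN H
  have e : MulAut.conj t • ι₁.range = ι₂.range := d.conj_range
  have sw := UFP.swap_of d.t2 u.mem tN
    (fun n hn => (d.idx H hn).imp (fun h => mem_normalizer_iff_cj.2 h.1)
      fun h => mem_normalizer_iff_cj.2 h.1) (by
    rw [e]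
    exact (d.odd_cen H).of_dvd_nat (card_dvd_of_le fun c hc =>
      d.cen0 (CL_iff.2 hc.2.2) (CL_iff.2 hc.1.2)))
  rw [e] at sw
  have n1 : ∀ a, a ≠ 1 → ι₁ a ≠ 1 := fun a h e => h (d.inj (e.trans (map_one _).symm))
  have z1 := n1 z H.z1
  obtain ⟨x, hx, y, hy, x1, y1, xy⟩ := H.A2
  have pl : UFP.PrdL (normalizer ((ι₁.range ⊔ ι₂.range : Subgroup G) : Set G))
      (normalizer ((ι₁.range ⊔ ι₂.range : Subgroup G) : Set G) ⊓ normalizer (ι₁.range : Set G))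
      (normalizer ((ι₁.range ⊔ ι₂.range : Subgroup G) : Set G) ⊓ centralizer (ι₂.range : Set G))
      (normalizer ((ι₁.range ⊔ ι₂.range : Subgroup G) : Set G) ⊓ centralizer (ι₁.range : Set G))
      P ι₁.range t := by
    refine ⟨sw, hP, h1, tP, fun h => tN h.2, syl, le_inf l1 d.symm.c21, inf_le_right,
      inf_le_right, ⟨A.map ι₁, ?_, fun w hw => ?_, ?_,
        _, ⟨x, hx, rfl⟩, _, ⟨y, hy, rfl⟩, n1 x x1, n1 y y1, fun h => xy (d.inj h)⟩,
        (d.uw H).mono (le_inf ?_ ?_)⟩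
    · rintro _ ⟨a, ha, rfl⟩
      exact ⟨hU (mem_map_of_mem _ (H.AT ha)), a, rfl⟩
    · obtain ⟨p, hp⟩ := ac_of_norm d.inj hw.2.2
      refine mem_normalizer_of_forall ?_
      rintro _ ⟨a, ha, rfl⟩
      exact ⟨_, H.Ainv p (fun b hb => d.ac_T H hP hU hw.1 hp hb) a ha, (hp a).symm⟩
    · rintro _ ⟨a, ha, rfl⟩
      rw [← map_mul, H.Asq a ha, map_one]
    · rintro _ ⟨a, ha, rfl⟩
      have h2 : ι₁ a ∈ P ⊓ ι₁.range := ⟨hU (mem_map_of_mem _ ha), a, rfl⟩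
      rw [d.dia, ← d.swp]
      exact Subgroup.mul_mem _ (mem_sup_left h2) (mem_sup_right (Coprime.conj_mem_conj_smul h2))
    · rintro _ ⟨a, -, rfl⟩
      exact mem_Cx.2 (d.tC a).symm
  have h2 : K ≤ normalizer ((ι₁.range ⊔ ι₂.range : Subgroup G) : Set G) :=
    UFP.le_of_invol g.simple (s1 ⟨z, rfl⟩) z1 (by rw [← map_mul, H.z2, map_one]) fun v hv v2 => by
      refine pl.mem u (g.index ht) ht g.perf s1 (K := ι₁.range ⊔ centralizer (ι₁.range : Set G))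
        le_sup_left (inf_le_right.trans le_sup_right) (fun a ha b hb h h' => ?_) (fun w hw h => ?_) hv v2
      · obtain ⟨p, hp⟩ := ac_of_norm d.inj ha.2
        obtain ⟨q, hq⟩ := ac_of_norm d.inj hb.2
        obtain ⟨c, hc⟩ := H.out (φ := p) (ψ := q) (fun ⟨c, e⟩ => h (inner_mem (a := c) (e ▸ hp)))
          fun ⟨c, e⟩ => h' (inner_mem (a := c) (e ▸ hq))
        exact inner_mem (a := c) (hc ▸ hp.mul hq)
      · obtain ⟨_, ⟨a, rfl⟩, c, hc, rfl⟩ :=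
          SLE.mem_sup_comm (fun a ha b hb => UFP.mem_cent.1 hb a ha) h
        have h3 := (ac_i a).mul (ac_one_iff.2 (CL_iff.2 hc))
        rw [mul_one] at h3
        have h5 : a ∈ T := by
          obtain ⟨k, hk⟩ := isPGroup_iff_mem.1 hP _ hw.1
          rw [(show Commute (ι₁ a) c from UFP.mem_cent.1 hc _ ⟨a, rfl⟩).mul_pow, ← map_pow] at hk
          have h6 : a ^ 2 ^ k = 1 := H.cl_one d.inj (CL_iff.2 (by
            rw [eq_inv_of_mul_eq_one_left hk]; exact inv_mem (pow_mem hc _)))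
          exact H.syl.le_of_normalizes (isPGroup_zpowers_of_pow h6) le_top
            (zpowers_le.2 (mem_normalizer_of_forall fun b hb => d.ac_T H hP hU hw.1 h3 hb)) (mem_zpowers a)
        have h4 : ι₁ a ∈ P := hU (mem_map_of_mem _ h5)
        exact Subgroup.mul_mem _ (mem_sup_left ⟨h4, a, rfl⟩)
          (mem_sup_right ⟨(P.mul_mem_cancel_left h4).1 hw.1,
            (Subgroup.mul_mem_cancel_left _ (l1 ⟨a, rfl⟩)).1 hw.2.1, hc⟩)
  have e0 : ι₁.range ⊔ ι₂.range = K :=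
    g.eq_of_norm (sup_le s1 s2) h2 (mem_sup_left ⟨z, rfl⟩) z1
  have z2 : ι₂ z ≠ 1 := fun h => H.z1 (d.symm.inj (h.trans (map_one _).symm))
  exact d.ne H ((g.eq_of_norm s1 (e0 ▸ sup_le le_normalizer
      (d.c21.trans (centralizer_le_normalizer _))) ⟨z, rfl⟩ z1).trans
    (g.eq_of_norm s2 (e0 ▸ sup_le (d.symm.c21.trans (centralizer_le_normalizer _))
      le_normalizer) ⟨z, rfl⟩ z2).symm)

end Pd

end CfsgLib.SJW
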