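import Cfsg.Agent.Lib.SJW.Fix

/-!
# The wreathed case: `t` has a unique fixed point
-/

set_option autoImplicit false
set_option linter.unusedSectionVars false

namespace CfsgLib.SJW

open Subgroup Cfsg CfsgLib.Tech CfsgLib.W2 Function

universe u

variable {L : Type} {G : Type u} [Group L] [Group G] [Finite L] [Finite G]
  {z : L} {T A : Subgroup L} {R : Bool → Subgroup L} {ι ι₁ ι₂ : L →* G} {t : G} {K : Subgroup G}

namespace Pd

variable (d : Pd ι t ι₁ ι₂) (H : PF z T A R)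
include d H

omit H in
theorem conj1 (a b c : L) : ι₁ a * ι₂ b * ι₁ c * (ι₁ a * ι₂ b)⁻¹ = ι₁ (a * c * a⁻¹) := by
  rw [mul_assoc (ι₁ a), ← d.com, map_mul, map_mul, map_inv]
  group

omit H in
theorem norm1 : ι₁.range ⊔ ι₂.range ≤ normalizer (ι₁.range : Set G) := fun g hg => by
  obtain ⟨a, b, rfl⟩ := d.mem_G0.1 hg
  refine mem_normalizer_of_forall ?_
  rintro _ ⟨c, rfl⟩
  exact ⟨_, (d.conj1 a b c).symm⟩

omit H in
theorem card1 : Nat.card ι₁.range = Nat.card L :=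
  (Nat.card_congr (MonoidHom.ofInjective d.inj).toEquiv).symm

/-- normal subgroups of `L₁ L₂` of order `|L|` -/
theorem nrm {J : Subgroup G} (h1 : J ≤ ι₁.range ⊔ ι₂.range)
    (h2 : ι₁.range ⊔ ι₂.range ≤ normalizer (J : Set G)) (h3 : Nat.card J = Nat.card L) :
    J = ι₁.range ∨ J = ι₂.range := by
  have hN : (J.comap ι₁).Normal := ⟨fun c hc a => by
    rw [mem_comap, map_mul, map_mul, map_inv]
    exact conj_mem_of_mem_normalizer (h2 (mem_sup_left ⟨a, rfl⟩)) hc⟩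
  rcases H.simple.eq_bot_or_eq_top_of_normal _ hN with e | e
  · refine .inr (eq_of_le_of_card_ge (fun j hj => ?_) (by rw [h3, d.symm.card1]))
    obtain ⟨a, b, rfl⟩ := d.mem_G0.1 (h1 hj)
    have : a = 1 := H.cen fun c => by
      have h4 : a * c * a⁻¹ * c⁻¹ ∈ J.comap ι₁ := by
        rw [mem_comap, map_mul, ← d.conj1 a b c, map_inv, mul_assoc, mul_assoc, ← mul_assoc (ι₁ c)]
        exact mul_mem hj (conj_mem_of_mem_normalizer (h2 (mem_sup_left ⟨c, rfl⟩)) (inv_mem hj))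
      rwa [e, mem_bot, mul_inv_eq_one, mul_inv_eq_iff_eq_mul] at h4
    exact ⟨b, by simp [this]⟩
  · refine .inl (eq_of_le_of_card_ge ?_ (by rw [h3, d.card1])).symm
    rintro _ ⟨a, rfl⟩
    exact mem_comap.1 (e ▸ mem_top a)

omit H in
theorem conj_range : cj t ι₁.range = ι₂.range := by
  refine le_antisymm (cj_le_iff.2 ?_) ?_
  · rintro _ ⟨a, rfl⟩
    exact ⟨a, (d.swp a).symm⟩
  · rintro _ ⟨a, rfl⟩
    rw [← d.swp]
    exact conj_mem_cj.2 ⟨a, rfl⟩

omit H in
theorem t_mem : t ∈ normalizer ((ι₁.range ⊔ ι₂.range : Subgroup G) : Set G) := by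
  rw [mem_normalizer_iff_cj, cj_sup, d.conj_range, d.symm.conj_range, sup_comm]

theorem perm1 {n : G} (hn : n ∈ normalizer ((ι₁.range ⊔ ι₂.range : Subgroup G) : Set G)) :
    cj n ι₁.range = ι₁.range ∨ cj n ι₁.range = ι₂.range := by
  rw [mem_normalizer_iff_cj] at hn
  refine d.nrm H (hn ▸ cj_mono n le_sup_left) ?_ (by rw [card_cj, d.card1])
  rw [← cj_normalizer, ← hn]
  exact cj_mono n d.norm1

/-- `N(L₁ L₂)` permutes the factors -/
theorem perm {n : G} (hn : n ∈ normalizer ((ι₁.range ⊔ ι₂.range : Subgroup G) : Set G)) :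
    (cj n ι₁.range = ι₁.range ∧ cj n ι₂.range = ι₂.range) ∨
      cj n ι₁.range = ι₂.range ∧ cj n ι₂.range = ι₁.range := by
  rcases d.perm1 H hn with h1 | h1 <;>
    rcases d.symm.perm1 H (n := n) (by rwa [sup_comm]) with h2 | h2
  · exact .inl ⟨h1, h2⟩
  · exact absurd (cj_injective n (h1.trans h2.symm)) (d.ne H)
  · exact absurd (cj_injective n (h1.trans h2.symm)) (d.ne H)
  · exact .inr ⟨h1, h2⟩

theorem tN : t ∉ normalizer (ι₁.range : Set G) := fun h =>
  d.ne H ((mem_normalizer_iff_cj.1 h).symm.trans d.conj_range)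

theorem odd_cen : Odd (Nat.card (centralizer ((ι₁.range ⊔ ι₂.range : Subgroup G) : Set G))) := by
  refine SLE.odd_of_inv d.t2 (by
    rw [mem_normalizer_iff_cj, cj_centralizer, mem_normalizer_iff_cj.1 d.t_mem]) fun c hc c2 ct => ?_
  refine (d.eq_t (fun a => (hc _ (d.mem_G0.2 ⟨a, a, d.dia a⟩)).symm) ct c2).resolve_right ?_
  rintro rfl
  exact d.tN H (centralizer_le_normalizer _ fun y hy => hc y (mem_sup_left (S := ι₁.range) hy))

/-- a homomorphism into `C(ι L) ∩ C(t)` is trivial -/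
theorem hom_triv {c : L →* G} (h1 : ∀ a, CL ι (c a)) (h2 : ∀ a, c a * t = t * c a) (a : L) : c a = 1 := by
  have := H.simple
  rcases (inferInstance : c.ker.Normal).eq_bot_or_eq_top with e | e
  · have hi := (MonoidHom.ker_eq_bot_iff _).1 e
    obtain ⟨x, hx, y, hy, x1, y1, xy⟩ := H.A2
    have k : ∀ x ∈ A, x ≠ 1 → c x = t := fun x hx x1 =>
      (d.eq_t (h1 x) (h2 x) (by rw [← map_mul, H.Asq x hx, map_one])).resolve_left
        fun e => x1 (hi (e.trans (map_one _).symm))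
    exact absurd (hi ((k x hx x1).trans (k y hy y1).symm)) xy
  · exact e.ge (mem_top a)

/-- a copy of `L` in `C(t)` is the diagonal -/
theorem range_eq {δ : L →* G} (hi : Injective δ) (h : δ.range ≤ Cx t) : δ.range = ι.range := by
  obtain ⟨π, hπ⟩ := d.exists_π
  let f : L →* MulAut L := π.comp (δ.codRestrict _ fun a => h ⟨a, rfl⟩)
  have hf : ∀ a, Ac ι (δ a) (f a) := fun a => hπ ⟨δ a, h ⟨a, rfl⟩⟩
  have h1 : ∀ a, f a ∈ Inn L := fun a => by
    have h2 : ⁅(⊤ : Subgroup L), (⊤ : Subgroup L)⁆ ≤ (Inn L).comap f := commutator_le.2 fun x _ y _ => by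
      rw [mem_comap, commutatorElement_def, map_mul, map_mul, map_mul, map_inv, map_inv]
      simp only [mul_mem_iff_of_index_two H.idx, inv_mem_iff]
      tauto
    exact h2 (H.perf (mem_top a))
  choose θ hθ using h1
  have hm : ∀ a b, θ (a * b) = θ a * θ b := fun a b => H.conj_inj (by rw [map_mul, hθ, hθ, hθ, map_mul])
  have cl : ∀ a, CL ι ((ι (θ a))⁻¹ * δ a) := fun a => (hf a).cl (hθ a ▸ ac_i (θ a))
  let c : L →* G := MonoidHom.mk' (fun a => (ι (θ a))⁻¹ * δ a) fun a b => by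
    rw [hm, map_mul, map_mul, mul_inv_rev, ← map_inv ι (θ b), ← mul_assoc _ (ι _), cl a (θ b)⁻¹]
    group
  have h3 : ∀ a, δ a = ι (θ a) := fun a => (inv_mul_eq_one.1 (d.hom_triv H (c := c) cl (fun a =>
    (Commute.mul_left (Commute.inv_left (show Commute t (ι (θ a)) from d.tC _).symm)
      (mem_Cx.1 (h ⟨a, rfl⟩))).eq) a)).symm
  refine eq_of_le_of_card_ge ?_ ?_
  · rintro _ ⟨a, rfl⟩
    exact ⟨_, (h3 a).symm⟩
  · rw [← Nat.card_congr (MonoidHom.ofInjective hi).toEquiv,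
      ← Nat.card_congr (MonoidHom.ofInjective d.inj0).toEquiv]

/-- the involutions centralising `C(a)` and moving `t` to `t a` -/
theorem unq {a l : L} (e : l * z * l⁻¹ = a) {w : G} (w2 : w * w = 1)
    (hc : ∀ c, c * a = a * c → w * ι c = ι c * w) (hw : w * t * w⁻¹ = t * ι a) :
    w = ι₁ a ∨ w = ι₂ a := by
  have a2 : a * a = 1 := by
    rw [← e, show l * z * l⁻¹ * (l * z * l⁻¹) = l * (z * z) * l⁻¹ by group, H.z2]; group
  have a1 : a ≠ 1 := fun h => H.z1 (by rw [show z = l⁻¹ * (l * z * l⁻¹) * l by group, e, h]; group)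
  have key : ∀ {κ₁ κ₂ : L →* G}, Pd ι t κ₁ κ₂ → CL ι ((κ₁ a)⁻¹ * w) → w = κ₁ a := fun {κ₁ κ₂} d h => by
    have k2 : κ₁ a * κ₁ a = 1 := by rw [← map_mul, a2, map_one]
    have ct : (κ₁ a)⁻¹ * w * t = t * ((κ₁ a)⁻¹ * w) := by
      rw [← mul_inv_eq_iff_eq_mul, show (κ₁ a)⁻¹ * w * t * ((κ₁ a)⁻¹ * w)⁻¹ =
        (κ₁ a)⁻¹ * (w * t * w⁻¹) * κ₁ a by group, hw, ← d.conj_one a2]
      group
    generalize hx : (κ₁ a)⁻¹ * w = x at h ct
    obtain rfl : w = κ₁ a * x := by rw [← hx]; group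
    rcases d.ker x ct h with o | o
    · rw [mul_assoc, ← mul_assoc x, o.2.1, mul_assoc, ← mul_assoc, k2, one_mul] at w2
      rw [eq_one_of_odd_sq o.1 w2, mul_one]
    · exfalso
      have h1 : x * t * (x * t) = ι a := by
        have h2 : κ₁ a * (x * t) * (t * κ₁ a * t⁻¹) * (x * t) = 1 := by
          rw [← w2, d.ti, ct]
          calc _ = κ₁ a * (t * x * t) * κ₁ a * (t * t) * x := by group
            _ = _ := by rw [← ct, mul_assoc x, d.t2]; group
        rw [d.swp, mul_assoc (κ₁ a), o.2.2, ← mul_assoc (κ₁ a), ← d.dia, mul_assoc] at h2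
        rw [eq_inv_of_mul_eq_one_right h2, ← map_inv, inv_eq_of_mul_eq_one_right a2]
      have h3 : Odd (orderOf (x * t * (x * t))) :=
        o.1.of_dvd_nat (by rw [← pow_two]; exact orderOf_pow_dvd 2)
      rw [h1] at h3
      exact a1 (d.inj0 ((eq_one_of_odd_sq h3 (by rw [← map_mul, a2, map_one])).trans (map_one _).symm))
  obtain ⟨φ, hφ⟩ := d.aut ((ι₁ a)⁻¹ * w) (by
    rw [← mul_inv_eq_iff_eq_mul, show (ι₁ a)⁻¹ * w * t * ((ι₁ a)⁻¹ * w)⁻¹ =
      (ι₁ a)⁻¹ * (w * t * w⁻¹) * ι₁ a by group, hw, ← d.conj_one a2]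
    group)
  rcases H.cz' e (φ := φ) (fun c h => d.inj0 (by
    rw [← hφ, mul_assoc _ w, hc c h, mul_inv_eq_iff_eq_mul, ← mul_assoc, ← mul_assoc, ← map_inv,
      d.comm_i (a := a⁻¹) (b := c) (Commute.inv_left h.symm).eq])) with rfl | rfl
  · exact .inl (key d (ac_one_iff.1 hφ))
  · refine .inr (key d.symm ?_)
    have := hφ.cl (ac_i a)
    rwa [← mul_assoc, ← mul_inv_rev, d.dia, ← mul_assoc, ← map_mul, a2, map_one, one_mul] at this

/-- conjugates of `t` swapping the factors are native -/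
theorem native {g : G} (h1 : cj (g * t * g⁻¹) ι₁.range = ι₂.range) :
    g ∈ normalizer ((ι₁.range ⊔ ι₂.range : Subgroup G) : Set G) := by
  have ti := d.ti
  have := H.simple
  let j : L →* G := (MulAut.conj g⁻¹).toMonoidHom.comp ι₁
  have hj : ∀ a, j a = g⁻¹ * ι₁ a * g := fun a => by simp [j]
  have h2 : ∀ a, ∃ b, t * j a * t = g⁻¹ * ι₂ b * g := fun a => by
    obtain ⟨b, hb⟩ : g * t * g⁻¹ * ι₁ a * (g * t * g⁻¹)⁻¹ ∈ ι₂.range := h1 ▸ conj_mem_cj.2 ⟨a, rfl⟩
    exact ⟨b, by rw [hb, hj]; nth_rewrite 2 [← ti]; group⟩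
  have cm : ∀ a b, j a * (t * j b * t) = t * j b * t * j a := fun a b => by
    obtain ⟨c, hc⟩ := h2 b
    rw [hc, hj, show g⁻¹ * ι₁ a * g * (g⁻¹ * ι₂ c * g) = g⁻¹ * (ι₁ a * ι₂ c) * g by group, d.com]
    group
  let δ : L →* G := MonoidHom.mk' (fun a => j a * (t * j a * t)) fun a b => by
    have : t * (j a * j b) * t = t * j a * t * (t * j b * t) := by
      rw [show t * j a * t * (t * j b * t) = t * j a * (t * t) * j b * t by group, d.t2]
      group
    rw [map_mul, this, mul_assoc, ← mul_assoc (j b), cm b a]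
    group
  have hδ : ∀ a, δ a = j a * (t * j a * t) := fun _ => rfl
  have hi : Function.Injective δ := (injective_iff_map_eq_one δ).2 fun a e => by
    obtain ⟨c, hc⟩ := h2 a
    rw [hδ, hc, hj] at e
    refine (d.uniq H (b := c) (a' := 1) (b' := 1) ?_).1
    calc _ = g * (g⁻¹ * ι₁ a * g * (g⁻¹ * ι₂ c * g)) * g⁻¹ := by group
      _ = _ := by simp [e]
  have hr := d.range_eq H hi (by
    rintro _ ⟨a, rfl⟩
    rw [mem_Cx, hδ, mul_assoc, mul_assoc, d.t2, mul_one, cm,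
      show t * (t * j a * t * j a) = t * t * j a * (t * j a) by group, d.t2, one_mul])
  have key : ∀ a, j a ∈ ι₁.range ⊔ ι₂.range := by
    have top : normalClosure {z} ≤ (((ι₁.range ⊔ ι₂.range).comap j).map δ).comap ι :=
      (closure_le _).2 fun x hx => by
        obtain ⟨y, hy, hc⟩ := Group.mem_conjugatesOfSet_iff.1 hx
        obtain rfl := Set.mem_singleton_iff.1 hy
        obtain ⟨l, hl⟩ := isConj_iff.1 hc
        obtain ⟨a, ha⟩ : ι x ∈ δ.range := hr ▸ ⟨_, rfl⟩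
        have a2 : a * a = 1 := hi (by
          rw [map_mul, ha, ← map_mul, ← hl, show l * y * l⁻¹ * (l * y * l⁻¹) = l * (y * y) * l⁻¹ by group,
            H.z2, mul_one, mul_inv_cancel, map_one, map_one])
        have j2 : j a * j a = 1 := by rw [← map_mul, a2, map_one]
        have k : j a = ι₁ x ∨ j a = ι₂ x := by
          refine d.unq H hl j2 (fun c hc => ?_) ?_
          · obtain ⟨b, hb⟩ : ι c ∈ δ.range := hr ▸ ⟨_, rfl⟩
            have e : b * a = a * b := hi (by rw [map_mul, map_mul, ha, hb, ← map_mul, hc, map_mul])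
            rw [← hb, hδ, ← mul_assoc, ← map_mul, ← e, map_mul, mul_assoc, cm, ← mul_assoc]
          · rw [← ha, hδ, cm, inv_eq_of_mul_eq_one_right j2,
              show t * (t * j a * t * j a) = t * t * (j a * t * j a) by group, d.t2, one_mul]
        refine ⟨a, ?_, ha⟩
        rcases k with e | e
        · exact mem_comap.2 (e ▸ mem_sup_left ⟨_, rfl⟩)
        · exact mem_comap.2 (e ▸ mem_sup_right ⟨_, rfl⟩)
    rw [(normalClosure_normal.eq_bot_or_eq_top (H := normalClosure {z})).resolve_left fun e =>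
      H.z1 (mem_bot.1 (e.le (subset_normalClosure rfl)))] at top
    intro a
    obtain ⟨b, hb⟩ : δ a ∈ ι.range := hr ▸ ⟨_, rfl⟩
    obtain ⟨c, hc, e⟩ := mem_comap.1 (top (mem_top b))
    exact hi (e.trans hb) ▸ hc
  refine inv_mem_iff.1 (mem_normalizer_of_cj_le ?_)
  have k1 : cj g⁻¹ ι₁.range ≤ ι₁.range ⊔ ι₂.range := cj_le_iff.2 (by
    rintro _ ⟨a, rfl⟩
    rw [inv_inv, ← hj]
    exact key a)
  rw [cj_sup]
  refine sup_le k1 ?_
  rw [← h1, ← cj_mul, show g⁻¹ * (g * t * g⁻¹) = t * g⁻¹ by group, cj_mul, h1,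
    ← mem_normalizer_iff_cj.1 d.t_mem]
  exact cj_mono t k1

theorem uu : UFP.U (normalizer ((ι₁.range ⊔ ι₂.range : Subgroup G) : Set G)) t :=
  ⟨d.t2, d.t_mem, fun _ hg => (d.perm H hg).elim
    (fun h => (d.n_fix H h.1 h.2).elim) fun h => d.native H h.1⟩

theorem not_mem (g : SLE.Glob K t) : t ∉ K := by
  obtain ⟨B, _, _, l, -, hl⟩ := SLE.exists_two_hom
    (G1 := normalizer ((ι₁.range ⊔ ι₂.range : Subgroup G) : Set G))
    (N0 := normalizer ((ι₁.range ⊔ ι₂.range : Subgroup G) : Set G) ⊓ normalizer (ι₁.range : Set G)) inf_le_left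
    fun a ha b hb => mem_inf.2 ⟨mul_mem (mul_mem (mul_mem ha hb) (inv_mem ha)) (inv_mem hb), by
      have e : cj (a⁻¹ * b⁻¹) ι₁.range = cj (b⁻¹ * a⁻¹) ι₁.range := by
        rcases d.perm H (inv_mem ha) with ⟨h1, h2⟩ | ⟨h1, h2⟩ <;>
          rcases d.perm H (inv_mem hb) with ⟨h3, h4⟩ | ⟨h3, h4⟩ <;> simp only [cj_mul, h1, h2, h3, h4]
      refine mem_normalizer_iff_cj.2 ?_
      rw [mul_assoc, cj_mul, e, ← cj_mul, show a * b * (b⁻¹ * a⁻¹) = 1 by group, cj_one]⟩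
  refine g.not_mem (UFP.not_mem_commutator d.t2 d.t_mem l (fun h => ?_) fun x hx _ => (d.uu H).uniq x hx)
  obtain ⟨m, ⟨k, rfl⟩, h1⟩ := (hl _).1 h
  rw [pow_succ, pow_mul, pow_two, d.t2, one_pow, one_mul] at h1
  exact d.tN H h1.2

end Pd

end CfsgLib.SJW
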